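import Cfsg.Agent.StdRank2.UClose.Model

/-!
# Automorphisms of `UT 5 F`: straight and crossed
-/

set_option autoImplicit false
set_option linter.unusedSectionVars false
set_option linter.unusedSimpArgs false

namespace Cfsg.Agent.StdRank2.UClose

open Matrix
open scoped commutatorElement
open Cfsg.Agent.SylowL.Lev Cfsg.Agent.SylowL.UT Cfsg.Agent.SylowL.Pat
open Cfsg.Agent.SylowL.CoordBase Cfsg.Agent.SylowL.CoordCf Cfsg.Agent.SylowL.CoordEnds
open Cfsg.Agent.SylowL.CoordField Cfsg.Agent.SylowL.CoordAut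

variable {F : Type*} [Field F]

/-- straight automorphisms -/
def St (f : UT 5 F ≃* UT 5 F) : Prop := ∀ (k : ℕ) (g : UT 5 F), cf g k = 0 → cf (f g) k = 0

/-- crossed automorphisms -/
def Cr (f : UT 5 F ≃* UT 5 F) : Prop := ∀ (k : ℕ) (g : UT 5 F), k ≤ 3 → cf g k = 0 → cf (f g) (3 - k) = 0

/-- The graph automorphism. -/
noncomputable def dl : UT 5 F ≃* UT 5 F :=
  MulEquiv.ofBijective Cfsg.Agent.SylowL.Dual.delta
    ⟨Cfsg.Agent.SylowL.Dual.delta_injective, Cfsg.Agent.SylowL.Dual.delta_surjective⟩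

theorem dl_dl (g : UT 5 F) : dl (dl g) = g := Cfsg.Agent.SylowL.Dual.delta_delta g

theorem cf_dl (g : UT 5 F) {k : ℕ} (hk : k ≤ 3) : cf (dl g) k = - cf g (3 - k) := by
  rw [← cf_inv]
  have h : N (dl g) = Cfsg.Agent.SylowL.Dual.flip (N g⁻¹) := Cfsg.Agent.SylowL.Dual.N_delta g
  interval_cases k
  · rw [cf0, h, Cfsg.Agent.SylowL.Dual.flip_apply, cf3]; rfl
  · rw [cf1, h, Cfsg.Agent.SylowL.Dual.flip_apply, cf2]; rfl
  · rw [cf2, h, Cfsg.Agent.SylowL.Dual.flip_apply, cf1]; rfl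
  · rw [cf3, h, Cfsg.Agent.SylowL.Dual.flip_apply, cf0]; rfl

theorem V_dl {k : ℕ} (hk : k ≤ 3) {g : UT 5 F} (h : V k g) : V (3 - k) (dl g) := by
  intro j hj
  by_cases hj3 : j ≤ 3
  · rw [cf_dl g hj3, h (3 - j) (by omega), neg_zero]
  · exact cf_of_not _ (by omega)

theorem st_or_cr [Finite F] (hF : ∃ t : F, t ≠ 0 ∧ t ≠ 1) (f : UT 5 F ≃* UT 5 F) : St f ∨ Cr f := by
  -- no collision of the two ends
  have key : ∀ k l : ℕ, k ≤ 3 → l ≤ 3 → k ≠ l → ∀ j, j ≤ 3 → (∀ g, V k g → V j (f g)) → (∀ g, V l g → V j (f g)) →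
      False := by
    intro k l hk hl hkl j hj h1 h2
    have hinj : Function.Injective (fun a : F => cf (f (rt k (by omega) a)) j) := by
      intro a b hab
      have h3 : V j (f (rt k (by omega) a * (rt k (by omega) b)⁻¹)) := by
        rw [map_mul, map_inv]
        exact V_mul (h1 _ (V_rt (by omega) a)) (V_inv (h1 _ (V_rt (by omega) b)))
      have h4 : N (f (rt k (by omega) a * (rt k (by omega) b)⁻¹)) ∈ lev 5 F 2 := by
        rw [mem_two_iff]
        intro i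
        by_cases hi : i = j
        · subst hi
          rw [map_mul, map_inv, cf_mul, cf_inv]
          exact sub_eq_zero.2 hab |>.symm ▸ (by rw [sub_eq_add_neg])
        · exact h3 i hi
      rw [lev_iff, mem_two_iff] at h4
      have h5 := h4 k
      rw [cf_mul, cf_inv, cf_rt_self, cf_rt_self, ← sub_eq_add_neg] at h5
      exact sub_eq_zero.1 h5
    have hsur := Finite.surjective_of_injective hinj
    obtain ⟨a, ha⟩ := hsur (cf (f (rt l (by omega) 1)) j)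
    have h4 : N (f (rt k (by omega) a * (rt l (by omega) 1)⁻¹)) ∈ lev 5 F 2 := by
      rw [mem_two_iff]
      intro i
      rw [map_mul, map_inv, cf_mul, cf_inv]
      by_cases hi : i = j
      · subst hi
        have : cf (f (rt k (by omega) a)) i = cf (f (rt l (by omega) 1)) i := ha
        rw [this, add_neg_cancel]
      · rw [h1 _ (V_rt (by omega) a) i hi, h2 _ (V_rt (by omega) 1) i hi, neg_zero, add_zero]
    rw [lev_iff, mem_two_iff] at h4
    have h5 := h4 l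
    rw [cf_mul, cf_inv, cf_rt_ne _ hkl, cf_rt_self, zero_add, neg_eq_zero] at h5
    exact one_ne_zero h5
  rcases ends_first (m := 5) (by norm_num) hF f with h0 | h0 <;>
    rcases ends_last (m := 5) (by norm_num) hF f with h3 | h3
  · exact absurd (key 0 3 (by norm_num) le_rfl (by norm_num) 0 (by norm_num) h0 h3) id
  · exact Or.inl fun k g hg => hyper (m := 5) (by norm_num) f h0 h3 hg
  · right
    intro k g hk hg
    have h5 : ∀ g, V 0 g → V 0 ((f.trans dl) g) := fun g hg => by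
      have := V_dl (k := 3) le_rfl (h0 g hg)
      exact this
    have h6 : ∀ g, V (5 - 2) g → V (5 - 2) ((f.trans dl) g) := fun g hg => by
      have := V_dl (k := 0) (by norm_num) (h3 g hg)
      exact this
    have h7 := hyper (m := 5) (by norm_num) (f.trans dl) h5 h6 hg
    have h8 : (f.trans dl) g = dl (f g) := rfl
    rw [h8, cf_dl _ hk, neg_eq_zero] at h7
    exact h7
  · exact absurd (key 0 3 (by norm_num) le_rfl (by norm_num) 3 le_rfl h0 h3) id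

/-! ### Subgroups of `Q` -/

variable [CharP F 2]

theorem aa (x : F) : x + x = 0 := CharTwo.add_self_eq_zero x
theorem aap (x : F × F) : x + x = 0 := Prod.ext (aa _) (aa _)

/-- `E1` -/
def e1 : Multiplicative ((F × F) × F × F × F × F) →* UT 5 F where
  toFun x := qm x.toAdd.1 0 x.toAdd.2.1 x.toAdd.2.2.1 x.toAdd.2.2.2.1 x.toAdd.2.2.2.2
  map_one' := qm_one
  map_mul' x y := by rw [qm_mul]; simp

/-- `E2` -/
def e2 : Multiplicative ((F × F) × F × F × F × F) →* UT 5 F where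
  toFun x := qm 0 x.toAdd.1 x.toAdd.2.1 x.toAdd.2.2.1 x.toAdd.2.2.2.1 x.toAdd.2.2.2.2
  map_one' := qm_one
  map_mul' x y := by rw [qm_mul]; simp

/-- `W` -/
def ew : Multiplicative (F × F × F × F) →* UT 5 F where
  toFun x := qm 0 0 x.toAdd.1 x.toAdd.2.1 x.toAdd.2.2.1 x.toAdd.2.2.2
  map_one' := qm_one
  map_mul' x y := by rw [qm_mul]; simp

theorem e1_inj : Function.Injective (e1 (F := F)) := by
  intro x y h
  obtain ⟨h1, -, h3, h4, h5, h6⟩ := qm_inj h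
  exact Prod.ext h1 (Prod.ext h3 (Prod.ext h4 (Prod.ext h5 h6)))

theorem ew_inj : Function.Injective (ew (F := F)) := by
  intro x y h
  obtain ⟨-, -, h3, h4, h5, h6⟩ := qm_inj h
  exact Prod.ext h3 (Prod.ext h4 (Prod.ext h5 h6))

theorem mem_e1 {g : UT 5 F} : g ∈ (e1 (F := F)).range ↔ ∃ u a b c d, g = qm u 0 a b c d :=
  ⟨fun ⟨x, hx⟩ => ⟨_, _, _, _, _, hx.symm⟩, fun ⟨u, a, b, c, d, h⟩ => ⟨Multiplicative.ofAdd (u, a, b, c, d), h.symm⟩⟩

theorem mem_e2 {g : UT 5 F} : g ∈ (e2 (F := F)).range ↔ ∃ u a b c d, g = qm 0 u a b c d :=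
  ⟨fun ⟨x, hx⟩ => ⟨_, _, _, _, _, hx.symm⟩, fun ⟨u, a, b, c, d, h⟩ => ⟨Multiplicative.ofAdd (u, a, b, c, d), h.symm⟩⟩

theorem mem_ew {g : UT 5 F} : g ∈ (ew (F := F)).range ↔ ∃ a b c d, g = qm 0 0 a b c d :=
  ⟨fun ⟨x, hx⟩ => ⟨_, _, _, _, hx.symm⟩, fun ⟨a, b, c, d, h⟩ => ⟨Multiplicative.ofAdd (a, b, c, d), h.symm⟩⟩

theorem card_e1 [Finite F] : Nat.card (e1 (F := F)).range = Nat.card F ^ 6 := by
  rw [← Nat.card_congr (MonoidHom.ofInjective e1_inj).toEquiv]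
  have : Nat.card (Multiplicative ((F × F) × F × F × F × F)) = Nat.card ((F × F) × F × F × F × F) :=
    Nat.card_congr Multiplicative.toAdd
  rw [this]
  simp only [Nat.card_prod]
  ring

theorem card_ew [Finite F] : Nat.card (ew (F := F)).range = Nat.card F ^ 4 := by
  rw [← Nat.card_congr (MonoidHom.ofInjective ew_inj).toEquiv]
  have : Nat.card (Multiplicative (F × F × F × F)) = Nat.card (F × F × F × F) :=
    Nat.card_congr Multiplicative.toAdd
  rw [this]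
  simp only [Nat.card_prod]
  ring

theorem e1_sq {g : UT 5 F} (h : g ∈ (e1 (F := F)).range) : g * g = 1 := by
  obtain ⟨u, a, b, c, d, rfl⟩ := mem_e1.1 h
  rw [qm_mul]
  simp [aa, aap, ← qm_one]

theorem e2_sq {g : UT 5 F} (h : g ∈ (e2 (F := F)).range) : g * g = 1 := by
  obtain ⟨u, a, b, c, d, rfl⟩ := mem_e2.1 h
  rw [qm_mul]
  simp [aa, aap, ← qm_one]

theorem e1_comm {g h : UT 5 F} (hg : g ∈ (e1 (F := F)).range) (hh : h ∈ (e1 (F := F)).range) : g * h = h * g := by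
  obtain ⟨x, rfl⟩ := hg
  obtain ⟨y, rfl⟩ := hh
  rw [← map_mul, mul_comm, map_mul]

/-- involutions of `Q` -/
theorem sq_qm {u v : F × F} {a b c d : F} (h : qm u v a b c d * qm u v a b c d = 1) :
    u.1 * v.1 = 0 ∧ u.1 * v.2 = 0 ∧ u.2 * v.1 = 0 ∧ u.2 * v.2 = 0 := by
  rw [qm_mul, ← qm_one] at h
  obtain ⟨-, -, h3, h4, h5, h6⟩ := qm_inj h
  simp only [aa, zero_add] at h3 h4 h5 h6
  exact ⟨h3, h4, h5, h6⟩

theorem v_zero {u v : F × F} (hu : u ≠ 0) (h : u.1 * v.1 = 0 ∧ u.1 * v.2 = 0 ∧ u.2 * v.1 = 0 ∧ u.2 * v.2 = 0) :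
    v = 0 := by
  obtain ⟨h1, h2, h3, h4⟩ := h
  by_cases hu1 : u.1 = 0
  · have hu2 : u.2 ≠ 0 := fun h => hu (Prod.ext hu1 h)
    exact Prod.ext ((mul_eq_zero.1 h3).resolve_left hu2) ((mul_eq_zero.1 h4).resolve_left hu2)
  · exact Prod.ext ((mul_eq_zero.1 h1).resolve_left hu1) ((mul_eq_zero.1 h2).resolve_left hu1)

theorem u_zero {u v : F × F} (hv : v ≠ 0) (h : u.1 * v.1 = 0 ∧ u.1 * v.2 = 0 ∧ u.2 * v.1 = 0 ∧ u.2 * v.2 = 0) :
    u = 0 := by
  obtain ⟨h1, h2, h3, h4⟩ := h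
  by_cases hv1 : v.1 = 0
  · have hv2 : v.2 ≠ 0 := fun h => hv (Prod.ext hv1 h)
    exact Prod.ext ((mul_eq_zero.1 h2).resolve_right hv2) ((mul_eq_zero.1 h4).resolve_right hv2)
  · exact Prod.ext ((mul_eq_zero.1 h1).resolve_right hv1) ((mul_eq_zero.1 h3).resolve_right hv1)

theorem e1_cf {g : UT 5 F} (h : g ∈ (e1 (F := F)).range) : cf g 0 = 0 ∧ cf g 2 = 0 ∧ cf g 3 = 0 := by
  obtain ⟨u, a, b, c, d, rfl⟩ := mem_e1.1 h
  rw [cf0, cf2, cf3]
  simp

theorem e2_cf {g : UT 5 F} (h : g ∈ (e2 (F := F)).range) : cf g 0 = 0 ∧ cf g 1 = 0 ∧ cf g 3 = 0 := by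
  obtain ⟨u, a, b, c, d, rfl⟩ := mem_e2.1 h
  rw [cf0, cf1, cf3]
  simp

/-- an involution of `Q` with nonzero entry `12` is in `E1` -/
theorem mem_e1_of {g : UT 5 F} (h0 : cf g 0 = 0) (h3 : cf g 3 = 0) (hg : g * g = 1) (h1 : cf g 1 ≠ 0) :
    g ∈ (e1 (F := F)).range := by
  rw [eq_qm h0 h3] at hg
  have h := v_zero (u := (N g 0 2, N g 1 2)) (fun h => h1 (by rw [cf1]; exact congrArg Prod.snd h)) (sq_qm hg)
  rw [mem_e1]
  have e := eq_qm h0 h3
  rw [h] at e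
  exact ⟨_, _, _, _, _, e⟩

/-- an involution of `Q` with nonzero entry `23` is in `E2` -/
theorem mem_e2_of {g : UT 5 F} (h0 : cf g 0 = 0) (h3 : cf g 3 = 0) (hg : g * g = 1) (h1 : cf g 2 ≠ 0) :
    g ∈ (e2 (F := F)).range := by
  rw [eq_qm h0 h3] at hg
  have h := u_zero (v := (N g 2 3, N g 2 4)) (fun h => h1 (by rw [cf2]; exact congrArg Prod.fst h)) (sq_qm hg)
  rw [mem_e2]
  have e := eq_qm h0 h3
  rw [h] at e
  exact ⟨_, _, _, _, _, e⟩

/-- a map of `E1` from its values on elements with nonzero entry `12` -/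
theorem e1_induct {H : Subgroup (UT 5 F)} (f : UT 5 F ≃* UT 5 F)
    (h : ∀ g ∈ (e1 (F := F)).range, cf g 1 ≠ 0 → f g ∈ H) : ∀ g ∈ (e1 (F := F)).range, f g ∈ H := by
  intro g hg
  by_cases h1 : cf g 1 = 0
  · let x : UT 5 F := qm (0, 1) 0 0 0 0 0
    have hx : x ∈ (e1 (F := F)).range := mem_e1.2 ⟨_, _, _, _, _, rfl⟩
    have hx1 : cf x 1 = 1 := by rw [cf1]; simp [x]
    have h2 := h (g * x) (mul_mem hg hx) (by rw [cf_mul, h1, hx1, zero_add]; exact one_ne_zero)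
    have h3 := h x hx (by rw [hx1]; exact one_ne_zero)
    rw [map_mul] at h2
    exact (mul_mem_cancel_right h3).1 h2
  · exact h g hg h1

theorem e2_induct {H : Subgroup (UT 5 F)} (f : UT 5 F ≃* UT 5 F)
    (h : ∀ g ∈ (e2 (F := F)).range, cf g 2 ≠ 0 → f g ∈ H) : ∀ g ∈ (e2 (F := F)).range, f g ∈ H := by
  intro g hg
  by_cases h1 : cf g 2 = 0
  · let x : UT 5 F := qm 0 (1, 0) 0 0 0 0
    have hx : x ∈ (e2 (F := F)).range := mem_e2.2 ⟨_, _, _, _, _, rfl⟩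
    have hx1 : cf x 2 = 1 := by rw [cf2]; simp [x]
    have h2 := h (g * x) (mul_mem hg hx) (by rw [cf_mul, h1, hx1, zero_add]; exact one_ne_zero)
    have h3 := h x hx (by rw [hx1]; exact one_ne_zero)
    rw [map_mul] at h2
    exact (mul_mem_cancel_right h3).1 h2
  · exact h g hg h1

/-- A straight automorphism normalises `E1`. -/
theorem St.e1 {f : UT 5 F ≃* UT 5 F} (hf : St f) : ∀ g ∈ (e1 (F := F)).range, f g ∈ (UClose.e1 (F := F)).range := by
  refine e1_induct f fun g hg h1 => ?_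
  obtain ⟨h0, -, h3⟩ := e1_cf hg
  refine mem_e1_of (hf 0 g h0) (hf 3 g h3) (by rw [← map_mul, e1_sq hg, map_one]) ?_
  rw [cf_apply f hf (k := 1) (by norm_num)]
  exact phi_ne f hf (by norm_num) h1

section Cr

variable {f : UT 5 F ≃* UT 5 F} (hf : Cr f) (h2 : ∀ x, f (f x) = x)

include hf h2

theorem Cr.ne {k : ℕ} (hk : k ≤ 3) {g : UT 5 F} (h : cf g k ≠ 0) : cf (f g) (3 - k) ≠ 0 := by
  intro h1
  apply h
  have h3 := hf (3 - k) (f g) (by omega) h1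
  rw [h2] at h3
  have : 3 - (3 - k) = k := by omega
  rwa [this] at h3

theorem Cr.e12 : ∀ g ∈ (e1 (F := F)).range, f g ∈ (e2 (F := F)).range := by
  refine e1_induct f fun g hg h1 => ?_
  obtain ⟨h0, -, h3⟩ := e1_cf hg
  refine mem_e2_of (hf 3 g le_rfl h3) (hf 0 g (by norm_num) h0) (by rw [← map_mul, e1_sq hg, map_one]) ?_
  exact Cr.ne hf h2 (k := 1) (by norm_num) h1

theorem Cr.e21 : ∀ g ∈ (e2 (F := F)).range, f g ∈ (e1 (F := F)).range := by
  refine e2_induct f fun g hg h1 => ?_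
  obtain ⟨h0, -, h3⟩ := e2_cf hg
  refine mem_e1_of (hf 3 g le_rfl h3) (hf 0 g (by norm_num) h0) (by rw [← map_mul, e2_sq hg, map_one]) ?_
  exact Cr.ne hf h2 (k := 2) (by norm_num) h1

theorem Cr.ew : ∀ g ∈ (ew (F := F)).range, f g ∈ (UClose.ew (F := F)).range := by
  intro g hg
  obtain ⟨a, b, c, d, rfl⟩ := mem_ew.1 hg
  obtain ⟨u, a1, b1, c1, d1, h1⟩ := mem_e1.1 (Cr.e21 hf h2 _ (mem_e2.2 ⟨0, a, b, c, d, rfl⟩))
  obtain ⟨v, a2, b2, c2, d2, h3⟩ := mem_e2.1 (Cr.e12 hf h2 _ (mem_e1.2 ⟨0, a, b, c, d, rfl⟩))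
  rw [h1] at h3 ⊢
  obtain ⟨rfl, -⟩ := qm_inj h3
  exact mem_ew.2 ⟨_, _, _, _, rfl⟩

end Cr

end Cfsg.Agent.StdRank2.UClose
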