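import Cfsg.Agent.StdRank2.UClose.Aut

/-!
# Crossed involutions of `UT 5 F`
-/

set_option autoImplicit false
set_option linter.unusedSectionVars false
set_option linter.unusedSimpArgs false

namespace Cfsg.Agent.StdRank2.UClose

open Matrix
open scoped commutatorElement
open Cfsg.Agent.SylowL.Lev Cfsg.Agent.SylowL.UT Cfsg.Agent.SylowL.Pat
open Cfsg.Agent.SylowL.CoordBase Cfsg.Agent.SylowL.CoordCf Cfsg.Agent.SylowL.CoordEnds
open Cfsg.Agent.SylowL.CoordField Cfsg.Agent.SylowL.CoordAut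

variable {F : Type*} [Field F] [CharP F 2]

/-- the action on `E1 / W` -/
def al (f : UT 5 F ≃* UT 5 F) (u : F × F) : F × F := (N (f (qm u 0 0 0 0 0)) 2 3, N (f (qm u 0 0 0 0 0)) 2 4)

/-- the action on `E2 / W` -/
def be (f : UT 5 F ≃* UT 5 F) (v : F × F) : F × F := (N (f (qm 0 v 0 0 0 0)) 0 2, N (f (qm 0 v 0 0 0 0)) 1 2)

/-- the commutator -/
def R (u v : F × F) : UT 5 F := qm 0 0 (u.1 * v.1) (u.1 * v.2) (u.2 * v.1) (u.2 * v.2)

theorem R_inj {u v u' v' : F × F} (h : R u v = R u' v') :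
    u.1 * v.1 = u'.1 * v'.1 ∧ u.1 * v.2 = u'.1 * v'.2 ∧ u.2 * v.1 = u'.2 * v'.1 ∧ u.2 * v.2 = u'.2 * v'.2 :=
  (qm_inj h).2.2

theorem R_smul (l : F) (u v : F × F) : R (l • u) v = R u (l • v) := by
  simp only [R, Prod.smul_fst, Prod.smul_snd, smul_eq_mul]
  congr 1 <;> ring

theorem qm_add_u (u u' : F × F) : qm (u + u') 0 0 0 0 0 = qm u 0 0 0 0 0 * qm u' (0 : F × F) 0 0 0 0 := by
  rw [qm_mul]; simp

theorem qm_add_v (u u' : F × F) : qm 0 (u + u') 0 0 0 0 = qm 0 u 0 0 0 0 * qm (0 : F × F) u' 0 0 0 0 := by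
  rw [qm_mul]; simp

theorem qm_split (u v : F × F) (a b c d : F) : qm u v a b c d =
    qm u 0 0 0 0 0 * qm 0 v 0 0 0 0 * qm 0 0 (a + u.1 * v.1) (b + u.1 * v.2) (c + u.2 * v.1) (d + u.2 * v.2) := by
  rw [qm_mul, qm_mul]
  have h : ∀ x y : F, y + (x + y) = x := fun x y => by
    rw [add_comm x y, ← add_assoc, aa, zero_add]
  simp [h]

theorem W_split (a b c d : F) : qm 0 0 a b c d = R (1, 0) (a, b) * R (0, 1) (c, d) := by
  rw [R, R, qm_mul]; simp

section

variable {f : UT 5 F ≃* UT 5 F} (hf : Cr f) (h2 : ∀ x, f (f x) = x)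

include hf h2

theorem f_qm (u v : F × F) (a b c d : F) : ∃ a' b' c' d', f (qm u v a b c d) = qm (be f v) (al f u) a' b' c' d' := by
  obtain ⟨y, a1, b1, c1, d1, h1⟩ := mem_e2.1 (Cr.e12 hf h2 _ (mem_e1.2 ⟨u, 0, 0, 0, 0, rfl⟩))
  obtain ⟨x, a3, b3, c3, d3, h3⟩ := mem_e1.1 (Cr.e21 hf h2 _ (mem_e2.2 ⟨v, 0, 0, 0, 0, rfl⟩))
  obtain ⟨a4, b4, c4, d4, h4⟩ := mem_ew.1 (Cr.ew hf h2 _ (mem_ew.2 ⟨a + u.1 * v.1, b + u.1 * v.2, c + u.2 * v.1,
    d + u.2 * v.2, rfl⟩))
  have hy : al f u = y := by rw [al, h1]; simp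
  have hx : be f v = x := by rw [be, h3]; simp
  rw [qm_split, map_mul, map_mul, h1, h3, h4, hx, hy, qm_mul, qm_mul]
  simp only [zero_add, add_zero]
  exact ⟨_, _, _, _, rfl⟩

theorem f_u (u : F × F) : ∃ a b c d, f (qm u 0 0 0 0 0) = qm 0 (al f u) a b c d := by
  obtain ⟨y, a1, b1, c1, d1, h1⟩ := mem_e2.1 (Cr.e12 hf h2 _ (mem_e1.2 ⟨u, 0, 0, 0, 0, rfl⟩))
  have hy : al f u = y := by rw [al, h1]; simp
  rw [hy]
  exact ⟨_, _, _, _, h1⟩

theorem f_v (v : F × F) : ∃ a b c d, f (qm 0 v 0 0 0 0) = qm (be f v) 0 a b c d := by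
  obtain ⟨x, a3, b3, c3, d3, h3⟩ := mem_e1.1 (Cr.e21 hf h2 _ (mem_e2.2 ⟨v, 0, 0, 0, 0, rfl⟩))
  have hx : be f v = x := by rw [be, h3]; simp
  rw [hx]
  exact ⟨_, _, _, _, h3⟩

theorem al_add (u u' : F × F) : al f (u + u') = al f u + al f u' := by
  obtain ⟨a, b, c, d, h⟩ := f_u hf h2 u
  obtain ⟨a', b', c', d', h'⟩ := f_u hf h2 u'
  obtain ⟨a1, b1, c1, d1, h1⟩ := f_u hf h2 (u + u')
  rw [qm_add_u, map_mul, h, h', qm_mul] at h1
  exact (qm_inj h1).2.1.symm

theorem be_add (u u' : F × F) : be f (u + u') = be f u + be f u' := by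
  obtain ⟨a, b, c, d, h⟩ := f_v hf h2 u
  obtain ⟨a', b', c', d', h'⟩ := f_v hf h2 u'
  obtain ⟨a1, b1, c1, d1, h1⟩ := f_v hf h2 (u + u')
  rw [qm_add_v, map_mul, h, h', qm_mul] at h1
  exact (qm_inj h1).1.symm

theorem al_be (v : F × F) : al f (be f v) = v := by
  obtain ⟨a, b, c, d, h⟩ := f_v hf h2 v
  obtain ⟨a', b', c', d', h'⟩ := f_qm hf h2 (be f v) 0 a b c d
  rw [← h, h2] at h'
  exact (qm_inj h').2.1.symm

theorem be_al (u : F × F) : be f (al f u) = u := by
  obtain ⟨a, b, c, d, h⟩ := f_u hf h2 u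
  obtain ⟨a', b', c', d', h'⟩ := f_qm hf h2 0 (al f u) a b c d
  rw [← h, h2] at h'
  exact (qm_inj h').1.symm

theorem f_R (u v : F × F) : f (R u v) = R (be f v) (al f u) := by
  obtain ⟨a, b, c, d, h⟩ := f_u hf h2 u
  obtain ⟨a', b', c', d', h'⟩ := f_v hf h2 v
  obtain ⟨x, y, z, w, hw⟩ := mem_ew.1 (Cr.ew hf h2 (R u v) (mem_ew.2 ⟨_, _, _, _, rfl⟩))
  have h1 : qm u 0 0 0 0 0 * qm 0 v 0 0 0 0 = R u v * (qm 0 v 0 0 0 0 * qm u 0 0 0 0 0) := by
    rw [R, qm_mul, qm_mul, qm_mul]; simp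
  have h3 := congrArg f h1
  rw [map_mul, map_mul, map_mul, h, h', hw, qm_mul, qm_mul, qm_mul] at h3
  obtain ⟨-, -, k1, k2, k3, k4⟩ := qm_inj h3
  simp only [Prod.fst_zero, Prod.snd_zero, zero_mul, mul_zero, add_zero] at k1 k2 k3 k4
  have key : ∀ p q x y : F, p + q = x + (q + p + y) → x = y := by
    intro p q x y h
    have : x + y = 0 := by linear_combination -h
    exact CharTwo.add_eq_zero.1 this
  rw [hw, R, key _ _ _ _ k1, key _ _ _ _ k2, key _ _ _ _ k3, key _ _ _ _ k4]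

/-- the field automorphism -/
def rho (f : UT 5 F ≃* UT 5 F) (l : F) : F := (al f (l • be f (1, 0))).1

theorem be_smul (l : F) (v : F × F) : be f (l • v) = rho f l • be f v := by
  have h := congrArg f (R_smul l (be f (1, 0)) v)
  rw [f_R hf h2, f_R hf h2] at h
  obtain ⟨k1, -, k3, -⟩ := R_inj h
  rw [al_be hf h2] at k1 k3
  refine Prod.ext ?_ ?_
  · rw [Prod.smul_fst, smul_eq_mul, rho]
    linear_combination -k1
  · rw [Prod.smul_snd, smul_eq_mul, rho]
    linear_combination -k3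

theorem al_smul (l : F) (u : F × F) : al f (l • u) = rho f l • al f u := by
  have h := congrArg f (R_smul l u (al f (1, 0)))
  rw [f_R hf h2, f_R hf h2, be_smul hf h2, be_al hf h2] at h
  obtain ⟨k1, k2, -, -⟩ := R_inj h
  refine Prod.ext ?_ ?_
  · rw [Prod.smul_fst, smul_eq_mul]
    simp only [Prod.smul_fst, smul_eq_mul] at k1
    linear_combination k1
  · rw [Prod.smul_snd, smul_eq_mul]
    simp only [Prod.smul_fst, smul_eq_mul] at k2
    linear_combination k2

theorem rho_invol (l : F) : rho f (rho f l) = l := by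
  have h := al_be hf h2 (l • (1, 0) : F × F)
  rw [be_smul hf h2, al_smul hf h2, al_be hf h2] at h
  have := congrArg Prod.fst h
  simpa using this

theorem rho_add (l l' : F) : rho f (l + l') = rho f l + rho f l' := by
  have h := al_smul hf h2 (l + l') (be f (1, 0))
  rw [add_smul, al_add hf h2, al_smul hf h2, al_smul hf h2, al_be hf h2] at h
  have := congrArg Prod.fst h
  simpa using this.symm

theorem rho_mul (l l' : F) : rho f (l * l') = rho f l * rho f l' := by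
  have h := al_smul hf h2 (l * l') (be f (1, 0))
  rw [mul_smul, al_smul hf h2, al_smul hf h2, al_be hf h2] at h
  have := congrArg Prod.fst h
  simpa using this.symm

/-- the field automorphism as a ring automorphism -/
def rhoE : F ≃+* F where
  toFun := rho f
  invFun := rho f
  left_inv := rho_invol hf h2
  right_inv := rho_invol hf h2
  map_mul' := rho_mul hf h2
  map_add' := rho_add hf h2

theorem al_zero : al f 0 = 0 := by
  have := al_add hf h2 0 0
  rw [add_zero] at this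
  exact left_eq_add.1 this

theorem be_zero : be f 0 = 0 := by
  have := be_add hf h2 0 0
  rw [add_zero] at this
  exact left_eq_add.1 this

/-! ### `ρ = 1`: many fixed points in `W` -/

theorem fixed_R (h1 : ∀ l, rho f l = l) (a : F) (v : F × F) : f (R (a • be f v) v) = R (a • be f v) v := by
  rw [f_R hf h2, al_smul hf h2, h1, al_be hf h2, ← R_smul]

theorem exists_linear [Finite F] (h1 : ∀ l, rho f l = l) : ∃ D : Subgroup (UT 5 F), (∀ x ∈ D, x * x = 1) ∧
    (∀ x ∈ D, ∀ y ∈ D, x * y = y * x) ∧ (∀ x ∈ D, f x = x) ∧ Nat.card D = Nat.card F ^ 3 := by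
  let p := be f (1, 0)
  let r := be f (0, 1)
  have hpr : be f (1, 1) = p + r := by
    rw [show ((1, 1) : F × F) = (1, 0) + (0, 1) by simp, be_add hf h2]
  let φ : Multiplicative (F × F × F) →* UT 5 F :=
    { toFun := fun x => R (x.toAdd.1 • p) (1, 0) * R (x.toAdd.2.1 • r) (0, 1) * R (x.toAdd.2.2 • (p + r)) (1, 1)
      map_one' := by
        simp only [R, qm_mul]
        simp [← qm_one]
      map_mul' := fun x y => by
        simp only [R, qm_mul]
        simp
        congr 1 <;> ring }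
  have hφ : ∀ x, φ x = R (x.toAdd.1 • p) (1, 0) * R (x.toAdd.2.1 • r) (0, 1) * R (x.toAdd.2.2 • (p + r)) (1, 1) :=
    fun x => rfl
  have hind : ∀ x y : F, x • p + y • r = 0 → x = 0 ∧ y = 0 := by
    intro x y h
    have h3 : be f (x, y) = 0 := by
      rw [show ((x, y) : F × F) = x • (1, 0) + y • (0, 1) by simp, be_add hf h2, be_smul hf h2, be_smul hf h2, h1, h1]
      exact h
    have h4 := al_be hf h2 (x, y)
    rw [h3, al_zero hf h2] at h4
    exact ⟨(congrArg Prod.fst h4).symm, (congrArg Prod.snd h4).symm⟩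
  have hinj : Function.Injective φ := by
    rw [injective_iff_map_eq_one]
    intro x hx
    rw [hφ] at hx
    simp only [R, qm_mul, ← qm_one] at hx
    obtain ⟨-, -, k1, k2, k3, k4⟩ := qm_inj hx
    simp only [Prod.smul_fst, Prod.smul_snd, Prod.fst_add, Prod.snd_add, smul_eq_mul, mul_one, mul_zero, add_zero,
      zero_add, Prod.fst_zero, Prod.snd_zero, zero_mul] at k1 k2 k3 k4
    have l1 := hind (x.toAdd.1 + x.toAdd.2.2) x.toAdd.2.2 (Prod.ext
      (by simp only [Prod.fst_add, Prod.smul_fst, smul_eq_mul, Prod.fst_zero]; linear_combination k1)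
      (by simp only [Prod.snd_add, Prod.smul_snd, smul_eq_mul, Prod.snd_zero]; linear_combination k3))
    have l2 := hind x.toAdd.2.2 (x.toAdd.2.1 + x.toAdd.2.2) (Prod.ext
      (by simp only [Prod.fst_add, Prod.smul_fst, smul_eq_mul, Prod.fst_zero]; linear_combination k2)
      (by simp only [Prod.snd_add, Prod.smul_snd, smul_eq_mul, Prod.snd_zero]; linear_combination k4))
    have e3 := l1.2
    have e1 := l1.1
    have e2 := l2.2
    rw [e3, add_zero] at e1 e2
    exact Prod.ext e1 (Prod.ext e2 e3)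
  refine ⟨φ.range, ?_, ?_, ?_, ?_⟩
  · rintro _ ⟨x, rfl⟩
    rw [← map_mul, ← map_one φ]
    congr 1
    exact CharTwo.add_self_eq_zero (R := F × F × F) x.toAdd
  · rintro _ ⟨x, rfl⟩ _ ⟨y, rfl⟩
    rw [← map_mul, mul_comm, map_mul]
  · rintro _ ⟨x, rfl⟩
    rw [hφ, map_mul, map_mul, fixed_R hf h2 h1, fixed_R hf h2 h1, ← hpr, fixed_R hf h2 h1]
  · rw [← Nat.card_congr (MonoidHom.ofInjective hinj).toEquiv]
    have : Nat.card (Multiplicative (F × F × F)) = Nat.card (F × F × F) :=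
      Nat.card_congr Multiplicative.toAdd
    rw [this]
    simp only [Nat.card_prod]
    ring

end

end Cfsg.Agent.StdRank2.UClose
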