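import Cfsg.Agent.StdRank2.UClose.Inst
import Cfsg.Agent.StdRank2.UFiveEnd.Asm
import Cfsg.Agent.StdRank2.SC.FieldOut
import Cfsg.Agent.StdRank2.TXAct
import Cfsg.Agent.StdRank2.UTn
import Cfsg.Agent.StdSpFour.CaseBSplit

/-!
# S1778, type `U₅(q)`, `q ≥ 4`: the field case

`field_end`: from `Top B L A t`, the grown groups and `B.s e = e + 1`: `t ∉ L`, the Sylow 2-subgroups of `L` are
isomorphic to `UT 5 R`, `|R| = |F| = q²`.  `concl`: `Concl L t` from S1769.
-/

set_option autoImplicit false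
set_option linter.unusedSectionVars false

namespace Cfsg.Agent.StdRank2.UClose

open Cfsg Subgroup Cfsg.Agent.SignalizersComponents Cfsg.Agent.StdEven.Syl Cfsg.Agent.StdEven.Loc
open Cfsg.Agent.StdEven.CoreQuot Cfsg.Agent.StdL2.Setup Cfsg.Agent.StdEven.EndLift
open Cfsg.Agent.StdRank2.UFour Cfsg.Agent.StdRank2.B2Conn Cfsg.Agent.StdRank2.OutB2G
open Cfsg.Agent.SylowL.UT

universe u

section S5

variable {F : Type*} [Field F] [CharP F 2] {B : Bar F} {G : Type*} [Group G] [Finite G]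
variable {E : UFive.Env B G} (Gr : UFive.Grown E)

theorem R_eq : Gr.R = Gr.toQGrown.R := by
  ext g
  rw [Gr.mem_R, Gr.toQGrown.mem_R]

theorem S5_eq_S0 : SC.Five.S5 Gr = Gr.toQGrown.S0 := by
  apply le_antisymm
  · unfold SC.Five.S5
    rw [R_eq]
    exact sup_le (sup_le (sup_le (sup_le (sup_le Gr.toQGrown.A_le Gr.toQGrown.B_le_S0) Gr.toQGrown.C_le)
      Gr.toQGrown.Z_le_S0) Gr.toQGrown.P_le) Gr.toQGrown.R_le
  · rw [Gr.toQGrown.S0_eq_sup]
    refine sup_le (sup_le (sup_le SC.Five.A_le_S5 SC.Five.P_le_S5) SC.Five.C_le_S5) ?_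
    rw [← R_eq]
    exact SC.Five.R_le_S5

end S5

section field

variable {F : Type*} [Field F] [Finite F] [CharP F 2] {B : Bar F} {G : Type u} [Group G] [Finite G]
  {L A : Subgroup G} {t : G} (P : UFiveEnd.Top B L A t)

/-- **The end of the field case**, from `S₀ ≅ UT 5 R`. -/
theorem field_end' (Gr : UFive.Grown P.E) {R : Type} [Field R] [Finite R] (hcard : Nat.card R = Nat.card F)
    (hiso : Nonempty (Gr.toQGrown.S0 ≃* UT 5 R)) :
    CharP R 2 ∧ 16 ≤ Nat.card R ∧ t ∉ L ∧ ∃ Y : Subgroup G, IsSyl Y L ∧ Nonempty (Y ≃* UT 5 R) := by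
  have hR2 : CharP R 2 := by
    have hp := CharP.exists R
    obtain ⟨p, hp⟩ := hp
    have hpp : p.Prime := (CharP.char_is_prime_or_zero R p).resolve_right
      (fun h0 => by subst h0; exact CharP.char_ne_zero_of_finite R 0 rfl)
    have h2 : p ∣ Nat.card F := by
      rw [← hcard]
      have : Fintype R := Fintype.ofFinite R
      obtain ⟨k, -, hk⟩ := FiniteField.card R p
      rw [Nat.card_eq_fintype_card, hk]
      exact dvd_pow_self p k.pos.ne'
    have : Fintype F := Fintype.ofFinite F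
    obtain ⟨k, -, hk⟩ := FiniteField.card F 2
    rw [Nat.card_eq_fintype_card, hk] at h2
    have h3 : p = 2 := (Nat.prime_dvd_prime_iff_eq hpp Nat.prime_two).1 (hpp.dvd_of_dvd_pow h2)
    exact h3 ▸ hp
  have h16 : 16 ≤ Nat.card R := by rw [hcard]; exact P.card
  have hU : UG P.S ≤ P.T := by rw [← P.TA]; exact inf_le_left
  have hs := TX.tsit P.hyp P.had hU
  obtain ⟨Y, h1, h2, -, -, h3⟩ := close5 P.hyp P.S P.hypE P.h0 P.h1 Gr.toQGrown P.C P.had hU h16 hcard hiso
    (fun x hx s hs' => TXAct.norm_S0 P.hypE P.h0 P.h1 Gr.toQGrown hs hx hs')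
  exact ⟨hR2, h16, h2, Y, h1, h3⟩

/-- **The end of the field case.** -/
theorem field_end (Gr : UFive.Grown P.E) (Pe : SC.Eps (SC.Five.ag Gr)) (hF : B.s Pe.e = Pe.e + 1) :
    ∃ (R : Type) (_ : Field R) (_ : Finite R) (_ : CharP R 2), 16 ≤ Nat.card R ∧ Nat.card R = Nat.card F ∧
      t ∉ L ∧ ∃ Y : Subgroup G, IsSyl Y L ∧ Nonempty (Y ≃* UT 5 R) := by
  obtain ⟨R, hR, hRf, hcard, hiso, -⟩ := SC.Five.field_UT (P := Pe) hF
  rw [S5_eq_S0] at hiso
  obtain ⟨h1, h2, h3, h4⟩ := field_end' P Gr hcard hiso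
  exact ⟨R, hR, hRf, h1, h2, hcard, h3, h4⟩

end field

section concl

/-- The rank of a group containing `UT 5 R`. -/
theorem not_rank {R : Type*} [Field R] [Finite R] [CharP R 2] (h16 : 16 ≤ Nat.card R) {L : Type*} [Group L]
    (i : UT 5 R →* L) (hi : Function.Injective i) : ¬ Cfsg.PRankLE 2 2 L := by
  intro h
  let f : Multiplicative R →* UT 5 R :=
    { toFun := fun r => UTn.el 0 4 r.toAdd
      map_one' := (UTn.std 5 R).x_zero (i := 0) (j := 4) (by decide)
      map_mul' := fun a b => (UTn.std 5 R).add (i := 0) (j := 4) (by decide) a.toAdd b.toAdd }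
  have hf : Function.Injective f := by
    intro a b hab
    have h1 : N (UTn.el (0 : Fin 5) 4 a.toAdd) = N (UTn.el (0 : Fin 5) 4 b.toAdd) := congrArg N hab
    rw [UTn.N_el (by decide), UTn.N_el (by decide)] at h1
    have h2 := congrFun (congrFun h1 0) 4
    simp only [Matrix.single_apply, and_self, if_true] at h2
    exact Multiplicative.toAdd.injective h2
  have hinj : Function.Injective (i.comp f) := hi.comp hf
  have h1 := h (i.comp f).range ⟨⟨?_⟩⟩ ?_
  · rw [← Nat.card_congr (MonoidHom.ofInjective hinj).toEquiv, Nat.card_congr Multiplicative.toAdd] at h1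
    omega
  · rintro ⟨_, x, rfl⟩ ⟨_, y, rfl⟩
    apply Subtype.ext
    show (i.comp f) x * (i.comp f) y = (i.comp f) y * (i.comp f) x
    rw [← map_mul, ← map_mul, mul_comm]
  · rintro _ ⟨x, rfl⟩
    rw [pow_two, ← map_mul]
    have : x * x = 1 := by
      apply Multiplicative.toAdd.injective
      exact CharTwo.add_self_eq_zero _
    rw [this, map_one]

open Cfsg.Agent.StdSpFour.CaseBSplit Cfsg.Agent.StdEven.Red

/-- **S1769 gives the conclusion.** -/
theorem concl {G : Type u} [Group G] [Finite G] {L : Subgroup G} {t : G} {R : Type} [Field R] [Finite R] [CharP R 2]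
    (h16 : 16 ≤ Nat.card R) (htL : t ∉ L) {Y : Subgroup G} (hY : IsSyl Y L) (e : Nonempty (Y ≃* UT 5 R))
    (h1769 : LinSylow.{u, 0} ↥L) : Concl L t := by
  refine ⟨Or.inl (Or.inl ?_), htL⟩
  have : Fintype R := Fintype.ofFinite R
  obtain ⟨e⟩ := e
  obtain ⟨r, hr0, hr⟩ := FiniteField.card R 2
  have hr2 : 2 ≤ (r : ℕ) := by
    by_contra hc
    have hr1 : (r : ℕ) ≤ 1 := by omega
    rw [Nat.card_eq_fintype_card, hr] at h16
    have : 2 ^ (r : ℕ) ≤ 2 ^ 1 := Nat.pow_le_pow_right (by norm_num) hr1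
    omega
  -- the Sylow subgroup of `L`
  have h2 : IsPGroup 2 (Y.subgroupOf L) := hY.two.comap_subtype
  let S : Sylow 2 ↥L :=
    { toSubgroup := Y.subgroupOf L
      isPGroup' := h2
      is_maximal' := by
        intro Q hQ hle
        have h3 : Q.map L.subtype = Y := by
          apply hY.max _ (hQ.map _)
          · rintro _ ⟨q, -, rfl⟩
            exact q.2
          · intro y hy
            exact ⟨⟨y, hY.le hy⟩, hle (show (⟨y, hY.le hy⟩ : ↥L) ∈ Y.subgroupOf L from hy), rfl⟩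
        ext q
        rw [mem_subgroupOf]
        constructor
        · intro hq
          rw [← h3]
          exact ⟨q, hq, rfl⟩
        · intro hq
          exact hle (show q ∈ Y.subgroupOf L from hq) }
  have eS : ↥(S : Subgroup ↥L) ≃* UT 5 R := (subgroupOfEquivOfLe hY.le).trans e
  have P : Sylow 2 (Matrix.ProjectiveSpecialLinearGroup (Fin 5) R) := default
  obtain ⟨e'⟩ := Cfsg.Agent.SylowL.SylowPSL.sylow_equiv 2 P
  exact ⟨R, inferInstance, inferInstance, inferInstance, 5, by norm_num, by norm_num,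
    h1769 (not_rank h16 (L.subtype.codRestrict L (fun x => x.2) |>.comp ((S : Subgroup ↥L).subtype.comp eS.symm.toMonoidHom)) (by
      intro a b hab
      apply eS.symm.injective
      exact Subtype.ext (Subtype.ext (congrArg Subtype.val hab)))) R r hr2 hr 5 (by norm_num) S P
      ⟨eS.trans e'.symm⟩⟩

/-- **The field case**, the form of `UFiveEnd.Asm`. -/
theorem fieldStmt : UFiveEnd.FieldStmt.{u} := by
  intro F _ _ _ B G _ _ L A t P Gr ep hF h1769
  obtain ⟨R, i1, i2, i3, h16, -, htL, Y, hY, e⟩ := field_end P Gr ep hF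
  exact concl h16 htL hY e h1769

/-- **The field case** from `S₀ ≅ UT 5 R`. -/
theorem concl_of_iso {F : Type*} [Field F] [Finite F] [CharP F 2] {B : Bar F} {G : Type u} [Group G] [Finite G]
    {L A : Subgroup G} {t : G} (P : UFiveEnd.Top B L A t) (Gr : UFive.Grown P.E) {R : Type} [Field R] [Finite R]
    (hcard : Nat.card R = Nat.card F) (hiso : Nonempty (Gr.toQGrown.S0 ≃* UT 5 R)) (h1769 : LinSylow.{u, 0} ↥L) :
    Concl L t := by
  obtain ⟨i3, h16, htL, Y, hY, e⟩ := field_end' P Gr hcard hiso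
  exact concl h16 htL hY e h1769

end concl

end Cfsg.Agent.StdRank2.UClose
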