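import Cfsg.Agent.StdRank2.UClose.Lift
import Cfsg.Agent.StdRank2.UFive.Rank
import Cfsg.Agent.StdRank2.UFive.Class
import Cfsg.Agent.StdRank2.B2CentZ
import Cfsg.Agent.StdRank2.TX

/-!
# The instance of `End5` in `X`

`H : Hyp A t T`, the package `S` of `A`, `T` adapted to it, `S₀ = A N₂` the grown group in `X`, `S₀ ≅ UT 5 R`,
`im T` normalises `S₀`.  Output: `End5 R S₀ (im T) t (im A)`, `S₀ ≤ im L`, hence the conclusion of `main5`.
-/

set_option autoImplicit false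
set_option linter.unusedSectionVars false

namespace Cfsg.Agent.StdRank2.UClose

open Cfsg Subgroup Cfsg.Agent.SignalizersComponents Cfsg.Agent.StdEven.Syl Cfsg.Agent.StdEven.Loc
open Cfsg.Agent.StdEven.CoreQuot Cfsg.Agent.StdL2.Setup Cfsg.Agent.StdEven.EndLift
open Cfsg.Agent.TitsThree.B2Pkg Cfsg.Agent.TitsThree.RankTwoIdentB2
  Cfsg.Agent.TitsThree.CoreB2 Cfsg.Agent.TitsThree.RankTwoIdx Cfsg.Agent.TitsThree.RankTwoRGD
  Cfsg.Agent.TitsThree.StdData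
open Cfsg.Agent.StdRank2.B2Lift Cfsg.Agent.StdRank2.B2Std
  Cfsg.Agent.StdRank2.B2Amb Cfsg.Agent.StdRank2.UFour Cfsg.Agent.StdRank2.B2Conn
open Cfsg.Agent.StdRank2.OutB2G Cfsg.Agent.StdRank2.OutB2Aut Cfsg.Agent.StdRank2.OutB2Inv
open Cfsg.Agent.StdRank2.TX Cfsg.Agent.StdRank2.UFour.SeedPre
open Cfsg.Agent.SylowL.UT
open scoped commutatorElement

section le

variable {F : Type*} [Field F] [CharP F 2] {B : Bar F} {G : Type*} [Group G] [Finite G]
variable {E : UFive.Env B G} (Gr : UFive.QGrown E)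

open UFive UFive.QGrown

/-- `[Y, h] = Y` lies in every normal subgroup containing `h`. -/
theorem le_of_fix (N : Subgroup G) [N.Normal] {Y : Subgroup G} {h : G} (hN : h ∈ N)
    (hY : ∀ y ∈ Y, h * y * h⁻¹ ∈ Y) (fix : ∀ y ∈ Y, h * y = y * h → y = 1) : Y ≤ N := by
  intro g hg
  obtain ⟨y, hy, rfl⟩ := su_of_fix Y hY fix hg
  have e : y⁻¹ * (h * y * h⁻¹) = (y⁻¹ * h * y) * h⁻¹ := by group
  rw [e]
  refine mul_mem ?_ (inv_mem hN)
  have := (inferInstance : N.Normal).conj_mem h hN y⁻¹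
  rwa [inv_inv] at this

/-- `h₁` acts without fixed points on `C` -/
theorem C_fix {c : G} (hc : c ∈ Gr.C) (h : E.hh Gr.l 1 * c = c * E.hh Gr.l 1) : c = 1 := by
  have key : ∀ x : F, E.xc ((Gr.l : F) * x) = E.xc x → x = 0 := by
    intro x hx
    have h1 : E.w (0, (Gr.l : F) * x, 0) = E.w (0, x, 0) := by rw [E.w_c, E.w_c, hx]
    exact Gr.l_fix (congrArg (fun v : B.V => v.2.1) (E.toWEnv.w_injective h1))
  have hc' : ∀ x, E.hh Gr.l 1 * E.xc x * (E.hh Gr.l 1)⁻¹ = E.xc ((Gr.l : F) * x) := by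
    intro x
    rw [E.hh_c, Units.val_one, map_one, mul_one]
  have hT := E.hh_mem Gr.l 1
  obtain ⟨x, hx⟩ := Gr.rootC.conj_t c hc
  have h6 : E.xc ((Gr.l : F) * x) = E.xc x := by
    rw [← hc']
    apply mul_right_cancel (b := E.t)
    have e : E.hh Gr.l 1 * E.xc x * (E.hh Gr.l 1)⁻¹ * E.t = E.hh Gr.l 1 * (E.xc x * E.t) * (E.hh Gr.l 1)⁻¹ := by
      have h1 := E.T_t _ hT
      calc E.hh Gr.l 1 * E.xc x * (E.hh Gr.l 1)⁻¹ * E.t =
          E.hh Gr.l 1 * E.xc x * ((E.hh Gr.l 1)⁻¹ * E.t * E.hh Gr.l 1) * (E.hh Gr.l 1)⁻¹ := by group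
        _ = _ := by
          have h2 : (E.hh Gr.l 1)⁻¹ * E.t * E.hh Gr.l 1 = E.t := by
            rw [mul_assoc, h1]; group
          rw [h2]; group
    rw [e, ← hx]
    symm
    have h3 : E.hh Gr.l 1 * E.t * (E.hh Gr.l 1)⁻¹ = E.t := by
      rw [← E.T_t _ hT]; group
    calc c * E.t * c⁻¹ = c * (E.hh Gr.l 1 * E.t * (E.hh Gr.l 1)⁻¹) * c⁻¹ := by rw [h3]
      _ = (c * E.hh Gr.l 1) * E.t * (c * E.hh Gr.l 1)⁻¹ := by group
      _ = _ := by rw [← h]; group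
  rw [key x h6, E.toWEnv.xc_zero, one_mul] at hx
  obtain ⟨y, rfl⟩ := Gr.rootC.cent c hc (mul_inv_eq_iff_eq_mul.1 hx)
  rw [key y (by rw [← hc', h, mul_inv_cancel_right]), E.toWEnv.xc_zero]

/-- **`S₀` lies in every normal subgroup of `X` containing the image of `A`.** -/
theorem S0_le (N : Subgroup G) [N.Normal] (hh : ∀ α β, E.hh α β ∈ N) (ha : E.na ∈ N) (hb : E.nb ∈ N) :
    Gr.S0 ≤ N := by
  have hP : Gr.P ≤ N := le_of_fix N (hh Gr.l 1) (fun _ hy => Gr.P_T _ (E.hh_mem _ _) _ hy)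
    (fun _ hy h => Gr.P_fix hy h)
  have hC : Gr.C ≤ N := le_of_fix N (hh Gr.l 1) (fun _ hy => Gr.rootC.conj_T _ (E.hh_mem _ _) _ hy)
    (fun _ hy h => C_fix Gr hy h)
  have hA : Gr.A ≤ N := by
    intro g hg
    have h1 := hC ((Gr.mem_A g).1 hg)
    have e : g = E.nb⁻¹ * (E.nb * g * E.nb⁻¹) * E.nb := by group
    rw [e]
    exact mul_mem (mul_mem (inv_mem hb) h1) hb
  have hR : Gr.R ≤ N := by
    intro g hg
    have h1 := hP (Gr.mem_R.1 hg)
    have e : g = E.na⁻¹ * (E.na * g * E.na⁻¹) * E.na := by group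
    rw [e]
    exact mul_mem (mul_mem (inv_mem ha) h1) ha
  rw [Gr.S0_eq_sup]
  exact sup_le (sup_le (sup_le hA hP) hC) hR

/-- `[S₀, S₀] ≤ N₂` -/
theorem comm_le_N2 : ⁅Gr.S0, Gr.S0⁆ ≤ Gr.N2 := by
  have hAA : ∀ a ∈ Gr.A, ∀ b ∈ Gr.A, a * b = b * a := by
    intro a ha b hb
    have h1 := Gr.A_sq (mul_mem ha hb)
    have h2 := Gr.A_sq ha
    have h3 := Gr.A_sq hb
    calc a * b = a * (a * b * (a * b)) * b := by rw [h1, mul_one]
      _ = (a * a) * (b * a) * (b * b) := by group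
      _ = b * a := by rw [h2, h3, one_mul, mul_one]
  have hmod : ∀ x ∈ Gr.S0, ∃ a ∈ Gr.A, ∃ n ∈ Gr.N2, x = a * n := fun x hx => Gr.mem_S0.1 hx
  have hN : ∀ x ∈ Gr.S0, ∀ n ∈ Gr.N2, x * n * x⁻¹ ∈ Gr.N2 := by
    intro x hx n hn
    obtain ⟨a, ha, m, hm, rfl⟩ := hmod x hx
    have e : a * m * n * (a * m)⁻¹ = a * (m * n * m⁻¹) * a⁻¹ := by group
    rw [e]
    exact Gr.A_conj_N2 ha (mul_mem (mul_mem hm hn) (inv_mem hm))
  rw [Subgroup.commutator_le]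
  intro x hx y hy
  obtain ⟨a, ha, m, hm, rfl⟩ := hmod x hx
  obtain ⟨b, hb, n, hn, rfl⟩ := hmod y hy
  have e : ⁅a * m, b * n⁆ = (a * m * (a)⁻¹) * ((a * b) * n * (a * b)⁻¹) * ((a * b) * m⁻¹ * (a * b)⁻¹) *
      (a * b * a⁻¹ * b⁻¹) * (b * n⁻¹ * b⁻¹) := by
    rw [commutatorElement_def]; group
  have hab : a * b ∈ Gr.A := mul_mem ha hb
  have e2 : a * b * a⁻¹ * b⁻¹ = 1 := by rw [hAA a ha b hb]; group
  rw [e, e2, mul_one]
  exact mul_mem (mul_mem (mul_mem (Gr.A_conj_N2 ha hm) (Gr.A_conj_N2 hab hn)) (Gr.A_conj_N2 hab (inv_mem hm)))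
    (Gr.A_conj_N2 hb (inv_mem hn))

end le

section inst

universe u

variable {F : Type*} [Field F] [Finite F] [CharP F 2] {B : Bar F} {G : Type u} [Group G] [Finite G]
variable {A : Subgroup G} {t : G} {T : Subgroup G} (H : Hyp A t T) (S : Std (stdU1 F B.s B.invol) ↥A)
variable {N : FData (stdU1 F B.s B.invol)} (hb : UEnvW.Hyp (imS H S) B H.tX) {lam : B.K} (h0 : lam ≠ 0) (h1 : lam ≠ 1)

theorem UU_eq : UU (UEnv5.env5 (imS H S) hb h0 h1).toWEnv = UG (imS H S) := by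
  apply le_antisymm
  · intro g hg
    obtain ⟨u, hu, rfl⟩ := B2CentZ.UU_le hb h0 h1 hg
    exact ⟨u, hu, rfl⟩
  · rintro _ ⟨u, hu, rfl⟩
    exact B2CentZ.mem_UU_of hb h0 h1 hu

variable (Gr : UFive.QGrown (UEnv5.env5 (imS H S) hb h0 h1))

include S hb h0 h1 in
/-- **The instance of `End5` in `X`.** -/
theorem end5 (had : Adapted N S T) (hU : UG S ≤ T) {R : Type*} [Field R] (h16 : 16 ≤ Nat.card R)
    (hcard : Nat.card R = Nat.card F) (e : Nonempty (Gr.S0 ≃* UT 5 R))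
    (hTS : ∀ x ∈ im A t T, ∀ s ∈ Gr.S0, x * s * x⁻¹ ∈ Gr.S0) :
    End5 R Gr.S0 (im A t T) H.tX (im A t A) := by
  have hs := tsit H had hU
  have hUU := UU_eq H S hb h0 h1
  have hU0 : UG (imS H S) ≤ Gr.S0 := by rw [← hUU]; exact Gr.U_le
  have hc : ∀ s ∈ Gr.S0, s * H.tX = H.tX * s → s ∈ UG (imS H S) := by
    intro s hs1 hs2
    rw [← hUU]
    exact Gr.S0_cent hs1 hs2
  have htt : H.tX * H.tX = 1 := H.tX_sq
  refine
    { S2 := Gr.isPGroup_S0
      T2 := hs.two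
      t_sq := htt
      t_mem := hs.t_mem
      T_t := hs.comm
      syl := fun Q hQ hQc => ?_
      T_S := hTS
      cent := fun s hs1 hst => hs.U (hc s hs1 hst)
      cyc := ?_
      lift := fun f hf => ?_
      A_norm := fun y hy a ha => hs.amb.nor y hy a ha
      U_A := fun s hs1 hsT => UG_le _ (hc s hs1 (hs.comm s hsT))
      A_T := fun a ha haT => ?_
      card := h16
      e := e
      rk := fun D hD hE hDt => ?_
      out := fun f hf hout => ?_ }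
  · obtain ⟨n, hn, h⟩ := H.syl_im.exists_conj hQ (fun x hx => by
      rw [mem_centralizer_singleton_iff]; exact hQc x hx)
    rw [mem_centralizer_singleton_iff] at hn
    exact ⟨n, hn, h⟩
  · obtain ⟨f0, hf0, h⟩ := hs.cyc
    refine ⟨f0, hf0, fun x hx => ?_⟩
    obtain ⟨n, u, hu, h2⟩ := h x hx
    exact ⟨n, u, hU0 hu, hs.U hu, h2⟩
  · obtain ⟨u, hu, h⟩ := hs.lift hf
    refine ⟨u, hU0 hu, hs.U hu, fun n hn => h n ?_⟩
    have huf : u * f ∈ im A t T := mul_mem (hs.U hu) hf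
    rcases hn with hn | hn
    · exact Or.inl (hc _ hn (hs.comm _ (pow_mem huf n)))
    · exact Or.inr (hc _ hn (hs.comm _ (mul_mem hs.t_mem (pow_mem huf n))))
  · have h := hs.inf_A (by exact hb.hD)
    have h2 : a ∈ im A t T ⊓ im A t A := ⟨haT, ha⟩
    rw [h] at h2
    exact hU0 h2
  · rw [hcard]
    refine UFive.Rank.card_le (E := UEnv5.env5 (imS H S) hb h0 h1) ?_ hE.1 hE.2
    intro x hx
    rw [hUU]
    exact hc x (hD hx) (hDt x hx)
  · have h2 : f ∈ UG (imS H S) ∨ H.tX * f ∈ UG (imS H S) := by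
      apply hs.out hf
      intro a
      have hxm : (((imS H S).m.x a : ↥(im A t A)) : XQ A t) ∈ UG (imS H S) := ⟨_, x_mem a, rfl⟩
      have h3 := comm_le_N2 Gr (hout _ (hU0 hxm))
      refine Gr.N2_cent h3 ?_
      have hfx : f * ((imS H S).m.x a : XQ A t) * f⁻¹ * ((imS H S).m.x a : XQ A t)⁻¹ ∈ im A t T :=
        mul_mem (mul_mem (mul_mem hf (hs.U hxm)) (inv_mem hf)) (inv_mem (hs.U hxm))
      exact hs.comm _ hfx
    rcases h2 with h2 | h2
    · exact Or.inl (hU0 h2)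
    · exact Or.inr (hU0 h2)

/-- `S₀ ≤ im L`. -/
theorem S0_le_im {L : Subgroup G} [L.Normal] (hAL : A ≤ L) : Gr.S0 ≤ im A t L := by
  have hn : (im A t L).Normal := by
    have h1 : (L.subgroupOf (NO A t)).Normal := inferInstance
    exact h1.map (pr A t) (pr_surjective A t)
  have hA : im A t A ≤ im A t L := im_mono hAL
  exact S0_le Gr (im A t L) (fun α β => hA (UEnv5.hh (imS H S) α β).2) (hA ((imS H S).m.nI).2)
    (hA (B2Rel2.nb (imS H S) _).2)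

include S hb h0 h1 in
/-- **The closing of type `U₅(q)`, field case.** -/
theorem close5 {L : Subgroup G} (C : Conf L A t) (had : Adapted N S T) (hU : UG S ≤ T) {R : Type*} [Field R]
    [Finite R] [CharP R 2] (h16 : 16 ≤ Nat.card R)
    (hcard : Nat.card R = Nat.card F) (e : Nonempty (Gr.S0 ≃* UT 5 R))
    (hTS : ∀ x ∈ im A t T, ∀ s ∈ Gr.S0, x * s * x⁻¹ ∈ Gr.S0) :
    ∃ Y : Subgroup G, IsSyl Y L ∧ t ∉ L ∧ Y ≤ NO A t ∧ im A t Y = Gr.S0 ∧ Nonempty (Y ≃* UT 5 R) := by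
  have := C.normal
  exact main5 H C (end5 H S hb h0 h1 Gr had hU h16 hcard e hTS) (S0_le_im H S hb h0 h1 Gr C.le)

end inst

end Cfsg.Agent.StdRank2.UClose
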