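import Cfsg.Agent.StdRank2.UClose.Cross

/-!
# Crossed involutions of `UT 5 F`: products, cocycles
-/

set_option autoImplicit false
set_option linter.unusedSectionVars false
set_option linter.unusedSimpArgs false

namespace Cfsg.Agent.StdRank2.UClose

open Matrix
open scoped commutatorElement
open Cfsg.Agent.SylowL.Lev Cfsg.Agent.SylowL.UT Cfsg.Agent.SylowL.Pat
open Cfsg.Agent.SylowL.CoordBase Cfsg.Agent.SylowL.CoordCf Cfsg.Agent.SylowL.CoordEnds
open Cfsg.Agent.SylowL.CoordField Cfsg.Agent.SylowL.CoordAut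

variable {F : Type*} [Field F] [CharP F 2]

theorem eq_one_of_pow {c : F} {n : ℕ} (h : c ^ 2 ^ n = 1) : c = 1 := by
  induction n with
  | zero => simpa using h
  | succ n ih =>
    apply ih
    rw [pow_succ, pow_mul] at h
    have h2 : (c ^ 2 ^ n - 1) ^ 2 = 0 := by
      linear_combination h - (c ^ 2 ^ n - 1) * (CharTwo.two_eq_zero (R := F))
    exact sub_eq_zero.1 (pow_eq_zero_iff (two_ne_zero) |>.1 h2)

/-- the elements `rt 1 a` -/
theorem rt_one (a : F) : (rt 1 (by norm_num) a : UT 5 F) = qm (0, a) 0 0 0 0 0 := by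
  have h : N (rt 1 (by norm_num) a : UT 5 F) = Matrix.single 1 2 a := N_root _ _ _ _
  apply ext5 <;> simp [h]

section

variable {f f' : UT 5 F ≃* UT 5 F} (hf : Cr f) (h2 : ∀ x, f (f x) = x) (hf' : Cr f') (h2' : ∀ x, f' (f' x) = x)

include hf hf' in
theorem st_mul : St (f'.trans f) := by
  intro k g h
  by_cases hk : k ≤ 3
  · have h1 := hf (3 - k) (f' g) (by omega) (hf' k g hk h)
    have e : 3 - (3 - k) = k := by omega
    rw [e] at h1
    exact h1
  · exact cf_of_not _ (by omega)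

include hf h2 hf' h2'

theorem phi_one (hr : ∀ l, rho f l = rho f' l) (a : F) :
    phi (f'.trans f) 1 a = a * phi (f'.trans f) 1 1 := by
  have key : ∀ a : F, phi (f'.trans f) 1 a = (be f (al f' (0, a))).2 := by
    intro a
    rw [phi_of _ (by norm_num), rt_one, cf1]
    obtain ⟨x, y, z, w, h⟩ := f_u hf' h2' (0, a)
    obtain ⟨x', y', z', w', h'⟩ := f_qm hf h2 0 (al f' (0, a)) x y z w
    have e : (f'.trans f) (qm (0, a) 0 0 0 0 0) = f (f' (qm (0, a) 0 0 0 0 0)) := rfl
    rw [e, h, h']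
    simp
  have e : ((0, a) : F × F) = a • (0, 1) := by simp
  rw [key, key, e, al_smul hf' h2', be_smul hf h2, ← hr, rho_invol hf h2, Prod.smul_snd, smul_eq_mul]

theorem phi_lin (hr : ∀ l, rho f l = rho f' l) (k : ℕ) (hk : k ≤ 3) (a : F) :
    phi (f'.trans f) k a = a * phi (f'.trans f) k 1 := by
  have hs := st_mul hf hf'
  have h1 := phi_one hf h2 hf' h2' hr
  have n0 : phi (f'.trans f) 0 1 ≠ 0 := phi_ne _ hs (by norm_num) one_ne_zero
  have n1 : phi (f'.trans f) 1 1 ≠ 0 := phi_ne _ hs (by norm_num) one_ne_zero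
  have n2 : phi (f'.trans f) 2 1 ≠ 0 := phi_ne _ hs (by norm_num) one_ne_zero
  have h2 : ∀ a, phi (f'.trans f) 2 a = a * phi (f'.trans f) 2 1 := by
    intro a
    have := phi_mul _ hs (k := 1) (by norm_num) 1 a
    rw [one_mul, h1 a] at this
    exact mul_left_cancel₀ n1 (by linear_combination this)
  have h3 : ∀ a, phi (f'.trans f) 3 a = a * phi (f'.trans f) 3 1 := by
    intro a
    have := phi_mul _ hs (k := 2) (by norm_num) 1 a
    rw [one_mul, h2 a] at this
    exact mul_left_cancel₀ n2 (by linear_combination this)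
  have h0 : ∀ a, phi (f'.trans f) 0 a = a * phi (f'.trans f) 0 1 := by
    intro a
    have := phi_mul _ hs (k := 0) (by norm_num) 1 a
    rw [one_mul, zero_add, h1 a] at this
    exact mul_right_cancel₀ n1 (by linear_combination -this)
  interval_cases k
  · exact h0 a
  · exact h1 a
  · exact h2 a
  · exact h3 a

theorem cf_iterate (hr : ∀ l, rho f l = rho f' l) (k : ℕ) (hk : k ≤ 3) (n : ℕ) (x : UT 5 F) :
    cf ((fun y => f (f' y))^[n] x) k = phi (f'.trans f) k 1 ^ n * cf x k := by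
  induction n generalizing x with
  | zero => simp
  | succ n ih =>
    rw [Function.iterate_succ_apply, ih]
    have e : f (f' x) = (f'.trans f) x := rfl
    rw [e, cf_apply _ (st_mul hf hf') (by omega), phi_lin hf h2 hf' h2' hr k hk (cf x k), pow_succ]
    ring

/-- Two crossed involutions with the same field automorphism, whose product is a 2-element, agree modulo the
stability group. -/
theorem cf_fixed (hr : ∀ l, rho f l = rho f' l) {n : ℕ} (hn : ∀ x, (fun y => f (f' y))^[2 ^ n] x = x) (x : UT 5 F)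
    (k : ℕ) : cf (f (f' x)) k = cf x k := by
  by_cases hk : k ≤ 3
  · have h1 := cf_iterate hf h2 hf' h2' hr k hk (2 ^ n) (rt k (by omega) 1)
    rw [hn, cf_rt_self, mul_one] at h1
    have h3 := eq_one_of_pow h1.symm
    have h4 := cf_iterate hf h2 hf' h2' hr k hk 1 x
    rw [h3, one_pow, one_mul] at h4
    exact h4
  · rw [cf_of_not _ (by omega), cf_of_not _ (by omega)]

end

section

variable {f : UT 5 F ≃* UT 5 F} (hf : Cr f) (h2 : ∀ x, f (f x) = x)

include hf h2

theorem stage_one {s : UT 5 F} (hs : f s = s⁻¹) : ∃ x, cf ((f x)⁻¹ * s * x) 0 = 0 ∧ cf ((f x)⁻¹ * s * x) 3 = 0 := by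
  refine ⟨rt 0 (by norm_num) (cf s 0), ?_, ?_⟩
  · have h1 := hf 3 (rt 0 (by norm_num) (cf s 0)) le_rfl (cf_rt_ne _ (by norm_num) _)
    rw [cf_mul, cf_mul, cf_inv, cf_rt_self]
    have h3 : cf (f (rt 0 (by norm_num) (cf s 0))) 0 = 0 := h1
    rw [h3, neg_zero, zero_add, aa]
  · have h1 := hf 0 ((rt 0 (by norm_num) (cf s 0))⁻¹ * s) (by norm_num) (by
      rw [cf_mul, cf_inv, cf_rt_self, neg_add_cancel])
    rw [map_mul, map_inv, hs, cf_mul, cf_inv, cf_inv] at h1
    have h3 : (-cf (f (rt 0 (by norm_num) (cf s 0))) 3) = cf s 3 := by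
      have h4 : -cf (f (rt 0 (by norm_num) (cf s 0))) 3 + -cf s 3 = 0 := h1
      linear_combination h4
    rw [cf_mul, cf_mul, cf_inv, h3, cf_rt_ne _ (by norm_num), add_zero, aa]

theorem stage_two {s : UT 5 F} (hs : f s = s⁻¹) (h0 : cf s 0 = 0) (h3 : cf s 3 = 0) :
    ∃ x, (f x)⁻¹ * s * x ∈ (ew (F := F)).range := by
  obtain ⟨u, v, a, b, c, d, rfl⟩ : ∃ u v a b c d, s = qm u v a b c d := ⟨_, _, _, _, _, _, eq_qm h0 h3⟩
  obtain ⟨a', b', c', d', h'⟩ := f_qm hf h2 u v a b c d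
  obtain ⟨x, y, z, w, hx⟩ := f_u hf h2 u
  have hv : al f u = v := by
    have h4 : f (qm u v a b c d) * qm u v a b c d = 1 := by rw [hs, inv_mul_cancel]
    rw [h', qm_mul, ← qm_one] at h4
    have h5 := (qm_inj h4).2.1
    exact Prod.ext (CharTwo.add_eq_zero.1 (congrArg Prod.fst h5)) (CharTwo.add_eq_zero.1 (congrArg Prod.snd h5))
  refine ⟨qm u 0 0 0 0 0, ?_⟩
  have hi : (qm 0 (al f u) x y z w)⁻¹ = qm 0 (al f u) x y z w :=
    inv_eq_of_mul_eq_one_left (e2_sq (mem_e2.2 ⟨_, _, _, _, _, rfl⟩))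
  rw [hx, hi, qm_mul, qm_mul, mem_ew]
  simp only [zero_add, add_zero, hv, aap]
  exact ⟨_, _, _, _, rfl⟩

theorem stage_three [Finite F] (hfix : ∀ D : Subgroup (UT 5 F), (∀ x ∈ D, x * x = 1) →
    (∀ x ∈ D, ∀ y ∈ D, x * y = y * x) → (∀ x ∈ D, f x = x) → Nat.card D ≤ Nat.card F ^ 2)
    {s : UT 5 F} (hs : f s = s⁻¹) (hw : s ∈ (ew (F := F)).range) : ∃ x, s = f x * x⁻¹ := by
  have hsq : ∀ x ∈ (ew (F := F)).range, x * x = 1 := by
    rintro _ ⟨x, rfl⟩
    rw [← map_mul, ← map_one ew]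
    congr 1
    exact CharTwo.add_self_eq_zero (R := F × F × F × F) x.toAdd
  have hcomm : ∀ x ∈ (ew (F := F)).range, ∀ y ∈ (ew (F := F)).range, x * y = y * x := by
    rintro _ ⟨x, rfl⟩ _ ⟨y, rfl⟩
    rw [← map_mul, mul_comm, map_mul]
  have hfw := Cr.ew hf h2
  let W := (ew (F := F)).range
  let φ : W →* W :=
    { toFun := fun x => ⟨f x * x, mul_mem (hfw _ x.2) x.2⟩
      map_one' := Subtype.ext (by simp)
      map_mul' := fun x y => by
        apply Subtype.ext
        simp only [Subgroup.coe_mul, map_mul]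
        have h1 := hcomm (f y) (hfw _ y.2) x x.2
        calc f x * f y * (x * y) = f x * (f y * x) * y := by group
          _ = f x * (x * f y) * y := by rw [h1]
          _ = f x * x * (f y * y) := by group }
  -- the fixed points
  let C : Subgroup (UT 5 F) :=
    { carrier := {x | x ∈ W ∧ f x = x}
      mul_mem' := fun {x y} hx hy => ⟨mul_mem hx.1 hy.1, by rw [map_mul, hx.2, hy.2]⟩
      one_mem' := ⟨one_mem _, map_one f⟩
      inv_mem' := fun {x} hx => ⟨inv_mem hx.1, by rw [map_inv, hx.2]⟩ }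
  have hC : Nat.card C ≤ Nat.card F ^ 2 := hfix C (fun x hx => hsq x hx.1) (fun x hx y hy => hcomm x hx.1 y hy.1)
    (fun x hx => hx.2)
  have hker : φ.ker = C.subgroupOf W := by
    ext x
    rw [MonoidHom.mem_ker, Subgroup.mem_subgroupOf]
    constructor
    · intro h
      have h1 : f x * x = 1 := congrArg Subtype.val h
      refine ⟨x.2, ?_⟩
      have h3 := eq_inv_of_mul_eq_one_left h1
      rw [h3, inv_eq_of_mul_eq_one_left (hsq x x.2)]
    · intro h
      apply Subtype.ext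
      show f x * x = 1
      rw [h.2, hsq x x.2]
  have hran : φ.range ≤ C.subgroupOf W := by
    rintro _ ⟨x, rfl⟩
    rw [Subgroup.mem_subgroupOf]
    refine ⟨(φ x).2, ?_⟩
    show f (f x * x) = f x * x
    rw [map_mul, h2]
    exact hcomm _ x.2 _ (hfw _ x.2)
  have hCW : Nat.card (C.subgroupOf W) = Nat.card C :=
    Nat.card_congr (Subgroup.subgroupOfEquivOfLe (show C ≤ W from fun x hx => hx.1)).toEquiv
  have hcard : Nat.card φ.ker * Nat.card φ.range = Nat.card F ^ 4 := by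
    rw [← card_ew, ← Subgroup.index_ker, Subgroup.card_mul_index]
  rw [hker, hCW] at hcard
  have h4 : Nat.card φ.range = Nat.card (C.subgroupOf W) := by
    apply le_antisymm (Subgroup.card_le_of_le hran)
    rw [hCW]
    have h5 : Nat.card C * Nat.card C ≤ Nat.card C * Nat.card φ.range := by
      rw [hcard]
      calc Nat.card C * Nat.card C ≤ Nat.card F ^ 2 * Nat.card F ^ 2 := Nat.mul_le_mul hC hC
        _ = _ := by ring
    exact Nat.le_of_mul_le_mul_left h5 Nat.card_pos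
  have heq : φ.range = C.subgroupOf W := Subgroup.eq_of_le_of_card_ge hran h4.ge
  have hss : s⁻¹ = s := inv_eq_of_mul_eq_one_left (hsq s hw)
  have hsC : (⟨s, hw⟩ : W) ∈ C.subgroupOf W := by
    rw [Subgroup.mem_subgroupOf]
    exact ⟨hw, by rw [hs, hss]⟩
  rw [← heq] at hsC
  obtain ⟨x, hx⟩ := hsC
  refine ⟨x, ?_⟩
  have h5 : f x * x = s := congrArg Subtype.val hx
  rw [inv_eq_of_mul_eq_one_left (hsq x x.2), h5]

/-- **All involutions of the coset `f · Inn` are conjugate.** -/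
theorem exists_coboundary [Finite F] (hfix : ∀ D : Subgroup (UT 5 F), (∀ x ∈ D, x * x = 1) →
    (∀ x ∈ D, ∀ y ∈ D, x * y = y * x) → (∀ x ∈ D, f x = x) → Nat.card D ≤ Nat.card F ^ 2)
    {s : UT 5 F} (hs : f s = s⁻¹) : ∃ x, s = f x * x⁻¹ := by
  have hinv : ∀ {s : UT 5 F} (x : UT 5 F), f s = s⁻¹ → f ((f x)⁻¹ * s * x) = ((f x)⁻¹ * s * x)⁻¹ := by
    intro s x h
    rw [map_mul, map_mul, map_inv, h2, h]
    group
  have hback : ∀ {s : UT 5 F} (x : UT 5 F), (∃ y, (f x)⁻¹ * s * x = f y * y⁻¹) → ∃ y, s = f y * y⁻¹ := by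
    rintro s x ⟨y, hy⟩
    refine ⟨x * y, ?_⟩
    rw [map_mul]
    calc s = f x * ((f x)⁻¹ * s * x) * x⁻¹ := by group
      _ = f x * f y * (x * y)⁻¹ := by rw [hy]; group
  obtain ⟨x, h0, h3⟩ := stage_one hf h2 hs
  apply hback x
  obtain ⟨y, hy⟩ := stage_two hf h2 (hinv x hs) h0 h3
  apply hback y
  exact stage_three hf h2 hfix (hinv y (hinv x hs)) hy

end

end Cfsg.Agent.StdRank2.UClose
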