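import Cfsg.Agent.StdRank2.UClose.Main
import Cfsg.Agent.StdEven.EndLift

/-!
# The end of the field case: from `X = N_G(O) / O` to `G`
-/

set_option autoImplicit false
set_option linter.unusedSectionVars false

namespace Cfsg.Agent.StdRank2.UClose

open Cfsg Subgroup Cfsg.Agent.SignalizersComponents Cfsg.Agent.StdEven.Syl Cfsg.Agent.StdEven.Loc
open Cfsg.Agent.StdEven.CoreQuot Cfsg.Agent.StdL2.Setup Cfsg.Agent.StdEven.EndLift
open Cfsg.Agent.SylowL.UT
open scoped commutatorElement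

variable {G : Type*} [Group G] [Finite G] {L A T : Subgroup G} {t : G} (H : Hyp A t T)

/-- A 2-element whose image lies in the image of `A` lies in `A`. -/
theorem mem_A_of_im {s : G} (hsN : s ∈ NO A t) {k : ℕ} (hs : s ^ 2 ^ k = 1) (h : pr A t ⟨s, hsN⟩ ∈ im A t A)
    (hO : ∀ o ∈ core A t, Odd (orderOf o) ∧ ∀ a ∈ A, a * o = o * a) : s ∈ A := by
  obtain ⟨n, hn, hne⟩ := mem_im.mp h
  have h1 : pr A t (n⁻¹ * ⟨s, hsN⟩) = 1 := by rw [map_mul, map_inv, hne, inv_mul_cancel]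
  have h2 : (n : G)⁻¹ * s ∈ core A t := pr_eq_one.mp h1
  set o := (n : G)⁻¹ * s with ho
  obtain ⟨h3, h4⟩ := hO o h2
  have h5 : s = n * o := by rw [ho]; group
  have h6 : Commute (n : G) o := h4 n hn
  have h7 : (n : G) ^ 2 ^ k * o ^ 2 ^ k = 1 := by rw [← h6.mul_pow, ← h5, hs]
  have h8 : o ^ 2 ^ k ∈ A := by
    have : o ^ 2 ^ k = ((n : G) ^ 2 ^ k)⁻¹ := eq_inv_of_mul_eq_one_right h7
    rw [this]
    exact inv_mem (pow_mem hn _)
  have h9 : Nat.Coprime (orderOf o) (2 ^ k) := by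
    apply Nat.Coprime.pow_right
    exact h3.coprime_two_right
  have h10 : o ∈ A := by
    obtain ⟨m, hm⟩ := exists_pow_eq_self_of_coprime h9.symm
    rw [← hm]
    exact pow_mem h8 m
  rw [h5]
  exact mul_mem hn h10

section

variable {S' : Subgroup (XQ A t)} (e : EndB S' (im A t T) H.tX (im A t A)) {P : Subgroup G} (hP : IsPGroup 2 P)
  (hPN : P ≤ NO A t) (hTP : T ≤ P) (hPi : im A t P = S' ⊔ im A t T)
include H e hP hPN hTP hPi

theorem lift_endB : EndB (back P S') T t A := by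
  have inj : ∀ {g g' : G} (hg : g ∈ P) (hg' : g' ∈ P), pr A t ⟨g, hPN hg⟩ = pr A t ⟨g', hPN hg'⟩ → g = g' := by
    intro g g' hg hg' hgg
    exact congrArg Subtype.val (H.pr_inj hP (x := ⟨g, hPN hg⟩) (y := ⟨g', hPN hg'⟩) hg hg' hgg)
  have mb : ∀ {Y' : Subgroup (XQ A t)} {g : G} (hg : g ∈ P), pr A t ⟨g, hPN hg⟩ ∈ Y' → g ∈ back P Y' :=
    fun hg h => mem_back.mpr ⟨hg, hPN hg, h⟩
  have mb' : ∀ {Y' : Subgroup (XQ A t)} {g : G}, g ∈ back P Y' → ∃ hg : g ∈ P, pr A t ⟨g, hPN hg⟩ ∈ Y' := by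
    intro Y' g hg
    obtain ⟨h1, h2, h3⟩ := mem_back.mp hg
    exact ⟨h1, h3⟩
  have htP : t ∈ P := hTP H.isT.mem
  have mc : ∀ {g g' : G}, g ∈ P → g' ∈ P → g * g' * g⁻¹ ∈ P := fun hg hg' => mul_mem (mul_mem hg hg') (inv_mem hg)
  have pm : ∀ {g g' : G} (hg : g ∈ P) (hg' : g' ∈ P),
      pr A t ⟨g * g', hPN (mul_mem hg hg')⟩ = pr A t ⟨g, hPN hg⟩ * pr A t ⟨g', hPN hg'⟩ := by
    intro g g' hg hg'
    rw [← map_mul]; rfl
  have pc : ∀ {g g' : G} (hg : g ∈ P) (hg' : g' ∈ P),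
      pr A t ⟨g * g' * g⁻¹, hPN (mc hg hg')⟩ = pr A t ⟨g, hPN hg⟩ * pr A t ⟨g', hPN hg'⟩ * (pr A t ⟨g, hPN hg⟩)⁻¹ := by
    intro g g' hg hg'
    rw [← map_inv, ← map_mul, ← map_mul]; rfl
  have pp : ∀ {g : G} (hg : g ∈ P) (n : ℕ), pr A t ⟨g ^ n, hPN (pow_mem hg n)⟩ = pr A t ⟨g, hPN hg⟩ ^ n := by
    intro g hg n
    rw [← map_pow]; rfl
  have comm' : ∀ {g g' : G} (hg : g ∈ P) (hg' : g' ∈ P), g * g' = g' * g →
      pr A t ⟨g, hPN hg⟩ * pr A t ⟨g', hPN hg'⟩ = pr A t ⟨g', hPN hg'⟩ * pr A t ⟨g, hPN hg⟩ := by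
    intro g g' hg hg' h
    rw [← map_mul, ← map_mul]
    congr 1
    exact Subtype.ext h
  have hT : ∀ {x : G} (hx : x ∈ T), pr A t ⟨x, hPN (hTP hx)⟩ ∈ im A t T := fun hx => pr_mem_im hx
  -- an element of `P` whose image is in `im T` is in `T`
  have mT : ∀ {g : G} (hg : g ∈ P), pr A t ⟨g, hPN hg⟩ ∈ im A t T → g ∈ T := by
    intro g hg h
    obtain ⟨n, hn, hne⟩ := mem_im.mp h
    have : (n : G) = g := inj (g := n) (hTP hn) hg hne
    rw [← this]; exact hn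
  refine
    { S2 := hP.to_le inf_le_left
      T2 := H.isT.syl.two
      t_sq := H.tt
      t_mem := H.isT.mem
      T_t := H.isT.cent
      syl := fun Q hQ hQc => ?_
      T_S := fun x hx s hs => ?_
      cent := fun s hs hst => ?_
      cyc := ?_
      lift := fun f hf => ?_
      A_norm := fun y hy a ha => conj_mem_of_mem_normalizer (H.mem_normalizer hy) ha
      U_A := fun s hs hsT => ?_
      A_T := fun a ha haT => ?_ }
  · obtain ⟨n, hn, h⟩ := (H.isT.syl_cent H.std H.ht H.htA).exists_conj hQ (fun x hx => by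
      rw [mem_centralizer_singleton_iff]; exact hQc x hx)
    rw [mem_centralizer_singleton_iff] at hn
    exact ⟨n, hn, h⟩
  · obtain ⟨h1, h2⟩ := mb' hs
    refine mb (mc (hTP hx) h1) ?_
    rw [pc (hTP hx) h1]
    exact e.T_S _ (hT hx) _ h2
  · obtain ⟨h1, h2⟩ := mb' hs
    exact mT h1 (e.cent _ h2 (comm' h1 htP hst))
  · obtain ⟨f0', hf0', hgen⟩ := e.cyc
    obtain ⟨f0, hf0, rfl⟩ := mem_im.mp hf0'
    refine ⟨f0, hf0, fun x hx => ?_⟩
    obtain ⟨n, u', hu', huT', hxu⟩ := hgen _ (hT hx)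
    obtain ⟨u, hu, rfl⟩ := mem_im.mp huT'
    refine ⟨n, u, mb (hTP hu) hu', hu, ?_⟩
    rcases hxu with hxu | hxu
    · left
      refine inj (hTP hx) (mul_mem (pow_mem (hTP hf0) n) (hTP hu)) ?_
      rw [hxu, ← map_pow, ← map_mul]; rfl
    · right
      refine inj (hTP hx) (mul_mem (mul_mem (pow_mem (hTP hf0) n) (hTP hu)) htP) ?_
      rw [hxu, H.tX_eq, ← map_pow, ← map_mul, ← map_mul]; rfl
  · obtain ⟨u', hu', huT', hl⟩ := e.lift _ (hT hf)
    obtain ⟨u, hu, rfl⟩ := mem_im.mp huT'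
    refine ⟨u, mb (hTP hu) hu', hu, fun n hn => ?_⟩
    have huf : (u : G) * f ∈ P := mul_mem (hTP hu) (hTP hf)
    have e1 : pr A t ⟨(u * f : G) ^ n, hPN (pow_mem huf n)⟩ = (pr A t u * pr A t ⟨f, hPN (hTP hf)⟩) ^ n := by
      rw [pp huf, ← map_mul]; rfl
    have h2 := hl n (by
      rcases hn with hn | hn
      · left
        obtain ⟨h1, h2⟩ := mb' hn
        rw [← e1]; exact h2
      · right
        obtain ⟨h1, h2⟩ := mb' hn
        have e2 : pr A t ⟨t * (u * f : G) ^ n, hPN h1⟩ = H.tX * pr A t ⟨(u * f : G) ^ n, hPN (pow_mem huf n)⟩ := by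
          rw [H.tX_eq, ← map_mul]; rfl
        rw [e2, e1] at h2
        exact h2)
    rcases h2 with h2 | h2
    · left
      refine inj (pow_mem huf n) (one_mem P) ?_
      rw [e1, h2, ← map_one (pr A t)]; rfl
    · right
      refine inj (pow_mem huf n) htP ?_
      rw [e1, h2, H.tX_eq]
  · obtain ⟨h1, h2⟩ := mb' hs
    obtain ⟨k, hk⟩ := H.isT.syl.two ⟨s, hsT⟩
    exact mem_A_of_im (hPN h1) (congrArg Subtype.val hk) (e.U_A _ h2 (hT hsT)) (fun o ho =>
      ⟨(H.mem_core.mp ho).2.2, fun a ha => (comm_of_centralizer (H.core_le ho) ha).symm⟩)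
  · exact mb (hTP haT) (e.A_T _ (pr_mem_im ha) (hT haT))

/-- the image of `back P S'` -/
theorem im_back : im A t (back P S') = S' := by
  apply le_antisymm
  · intro y hy
    obtain ⟨n, hn, rfl⟩ := mem_im.mp hy
    exact (mem_back.mp hn).2.choose_spec
  · intro y hy
    have h4 : y ∈ im A t P := by rw [hPi]; exact mem_sup_left hy
    obtain ⟨n, hn, rfl⟩ := mem_im.mp h4
    exact pr_mem_im (mem_back.mpr ⟨hn, n.2, hy⟩)

end

section

variable {F : Type*} [Field F] {S' : Subgroup (XQ A t)} (e : End5 F S' (im A t T) H.tX (im A t A)) {P : Subgroup G}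
  (hP : IsPGroup 2 P) (hPN : P ≤ NO A t) (hTP : T ≤ P) (hPi : im A t P = S' ⊔ im A t T)
include H e hP hPN hTP hPi

theorem lift_end5 : End5 F (back P S') T t A := by
  have hb := lift_endB H e.toEndB hP hPN hTP hPi
  have him := im_back H e.toEndB hP hPN hTP hPi
  have hSN : back P S' ≤ NO A t := fun g hg => (mem_back.mp hg).2.choose
  have htP : t ∈ P := hTP H.isT.mem
  have mb' : ∀ {Y' : Subgroup (XQ A t)} {g : G}, g ∈ back P Y' → ∃ hg : g ∈ P, pr A t ⟨g, hPN hg⟩ ∈ Y' := by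
    intro Y' g hg
    obtain ⟨h1, h2, h3⟩ := mem_back.mp hg
    exact ⟨h1, h3⟩
  have hT : ∀ {x : G} (hx : x ∈ T), pr A t ⟨x, hPN (hTP hx)⟩ ∈ im A t T := fun hx => pr_mem_im hx
  obtain ⟨f, hf⟩ := H.exists_equiv_im hb.S2 hSN
  refine { toEndB := hb, card := e.card, e := ?_, rk := fun D hD hE hDt => ?_, out := fun x hx hout => ?_ }
  · obtain ⟨g⟩ := e.e
    exact ⟨(f.trans (MulEquiv.subgroupCongr him)).trans g⟩
  · have hDN : D ≤ NO A t := hD.trans hSN
    have hD2 : IsPGroup 2 D := hb.S2.to_le hD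
    rw [← H.card_im hD2 hDN]
    refine e.rk _ ?_ ⟨?_, ?_⟩ ?_
    · rw [← him]; exact im_mono hD
    · rintro _ hx
      obtain ⟨n, hn, rfl⟩ := mem_im.mp hx
      rw [← map_mul, ← map_one (pr A t)]
      congr 1
      exact Subtype.ext (hE.1 n hn)
    · rintro _ hx _ hy
      obtain ⟨n, hn, rfl⟩ := mem_im.mp hx
      obtain ⟨m, hm, rfl⟩ := mem_im.mp hy
      rw [← map_mul, ← map_mul]
      congr 1
      exact Subtype.ext (hE.2 n hn m hm)
    · rintro _ hx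
      obtain ⟨n, hn, rfl⟩ := mem_im.mp hx
      rw [H.tX_eq, ← map_mul, ← map_mul]
      congr 1
      exact Subtype.ext (hDt n hn)
  · have h1 := e.out _ (hT hx) (by
      intro s' hs'
      rw [← him] at hs'
      obtain ⟨s, hs, rfl⟩ := mem_im.mp hs'
      have h2 := hout s hs
      have h3 : ⁅back P S', back P S'⁆ ≤ (⁅S', S'⁆.comap (pr A t)).map (NO A t).subtype := by
        rw [Subgroup.commutator_le]
        intro a ha b hb'
        obtain ⟨ha1, ha2⟩ := mb' ha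
        obtain ⟨hb1, hb2⟩ := mb' hb'
        refine ⟨⟨⁅a, b⁆, ?_⟩, ?_, rfl⟩
        · rw [commutatorElement_def]
          exact mul_mem (mul_mem (mul_mem (hPN ha1) (hPN hb1)) (inv_mem (hPN ha1))) (inv_mem (hPN hb1))
        · show pr A t _ ∈ ⁅S', S'⁆
          have e1 : (⟨⁅a, b⁆, by
            rw [commutatorElement_def]
            exact mul_mem (mul_mem (mul_mem (hPN ha1) (hPN hb1)) (inv_mem (hPN ha1))) (inv_mem (hPN hb1))⟩ : NO A t) =
              ⁅(⟨a, hPN ha1⟩ : NO A t), ⟨b, hPN hb1⟩⁆ := Subtype.ext rfl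
          rw [e1, map_commutatorElement]
          exact Subgroup.commutator_mem_commutator ha2 hb2
      obtain ⟨n, hn, hne⟩ := h3 h2
      have e2 : pr A t ⟨x, hPN (hTP hx)⟩ * pr A t s * (pr A t ⟨x, hPN (hTP hx)⟩)⁻¹ * (pr A t s)⁻¹ = pr A t n := by
        rw [← map_inv, ← map_inv, ← map_mul, ← map_mul, ← map_mul]
        congr 1
        exact Subtype.ext hne.symm
      rw [e2]
      exact hn)
    rcases h1 with h1 | h1
    · exact Or.inl (mem_back.mpr ⟨hTP hx, hPN (hTP hx), h1⟩)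
    · right
      refine mem_back.mpr ⟨mul_mem htP (hTP hx), hPN (mul_mem htP (hTP hx)), ?_⟩
      have e2 : pr A t ⟨t * x, hPN (mul_mem htP (hTP hx))⟩ = H.tX * pr A t ⟨x, hPN (hTP hx)⟩ := by
        rw [H.tX_eq, ← map_mul]; rfl
      rw [e2]; exact h1

end

/-- **The end of the field case, from `X` to `G`.** -/
theorem main5 (C : Conf L A t) {F : Type*} [Field F] [Finite F] [CharP F 2] {S' : Subgroup (XQ A t)}
    (e : End5 F S' (im A t T) H.tX (im A t A)) (hSL : S' ≤ im A t L) :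
    ∃ S : Subgroup G, IsSyl S L ∧ t ∉ L ∧ S ≤ NO A t ∧ im A t S = S' ∧ Nonempty (S ≃* UT 5 F) := by
  have hTS : T ≤ NO A t := H.T_le
  have hn : im A t T ≤ normalizer (S' : Set (XQ A t)) := fun x hx => mem_normalizer_of_conj_le (e.T_S x hx)
  have h2 : IsPGroup 2 (S' ⊔ im A t T : Subgroup (XQ A t)) := e.S2.to_sup_of_normal_left' e.T2 hn
  obtain ⟨P, hP, hPN, hTP, hPi⟩ := H.exists_lift (Y' := S' ⊔ im A t T) h2 H.isT.syl.two H.T_le le_sup_right
  have e' := lift_end5 H e hP hPN hTP hPi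
  have hSN : back P S' ≤ NO A t := fun g hg => (mem_back.mp hg).2.choose
  have hSL' : back P S' ≤ L := by
    intro g hg
    obtain ⟨h1, h2, h3⟩ := mem_back.mp hg
    exact mem_L C H h2 (hSL h3)
  have hLn := C.normal
  obtain ⟨htL, Q, hQ, hQL⟩ := e'.main (perfect C) hSL'
  refine ⟨back P S', ?_, htL, hSN, im_back H e.toEndB hP hPN hTP hPi, e'.e⟩
  -- `S` is Sylow in `L`
  refine ⟨hSL', e'.S2, fun Y hY hYL hSY => ?_⟩
  obtain ⟨R, hR⟩ := hY.exists_le_sylow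
  have : Fact (Nat.Prime 2) := ⟨Nat.prime_two⟩
  obtain ⟨g, hg⟩ := MulAction.exists_smul_eq G R Q
  have h3 : Nat.card Y ≤ Nat.card (back P S') := by
    rw [Nat.card_congr (Subgroup.equivMapOfInjective Y (MulAut.conj g).toMonoidHom (MulAut.conj g).injective).toEquiv]
    apply Subgroup.card_le_of_le
    rintro _ ⟨y, hy, rfl⟩
    rw [← hQL]
    refine ⟨?_, hLn.conj_mem _ (hYL hy) g⟩
    rw [← hg]
    exact ⟨y, hR hy, rfl⟩
  exact (Subgroup.eq_of_le_of_card_ge hSY h3).symm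

end Cfsg.Agent.StdRank2.UClose
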