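import Cfsg.Agent.StdRank2.UClose.Star
import Cfsg.Agent.StdEven.OuterKill

/-!
# S1778, type `U₅(q)`, field case: the end

`End5 F S T t A`: `S ≅ UT 5 F` a 2-subgroup, `T` a Sylow 2-subgroup of `C_G(t)` normalising `S`, `U = S ∩ T`.
Conclusion: `S` is a Sylow 2-subgroup of the perfect normal subgroup `L` and `t ∉ L`.
-/

set_option autoImplicit false
set_option linter.unusedSectionVars false
set_option linter.unusedSimpArgs false

namespace Cfsg.Agent.StdRank2.UClose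

open Cfsg.Agent.SylowL.UT Cfsg.Agent.SylowL.CoordCf
open scoped Pointwise

variable {G : Type*} [Group G]

/-- Elementary abelian -/
def Ele (D : Subgroup G) : Prop := (∀ x ∈ D, x * x = 1) ∧ ∀ x ∈ D, ∀ y ∈ D, x * y = y * x

/-- The type independent hypotheses: `S` is a 2-group, `T` a Sylow 2-subgroup of `C_G(t)` normalising `S`,
`S ⊓ T = A ⊓ T` where `A` is normal in `C_G(t)`; `T / (S ⊓ T)⟨t⟩` is cyclic, and its elements lift. -/
structure EndB (S T : Subgroup G) (t : G) (A : Subgroup G) : Prop where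
  S2 : IsPGroup 2 S
  T2 : IsPGroup 2 T
  t_sq : t * t = 1
  t_mem : t ∈ T
  T_t : ∀ x ∈ T, x * t = t * x
  syl : ∀ Q : Subgroup G, IsPGroup 2 Q → (∀ z ∈ Q, z * t = t * z) → ∃ y, y * t = t * y ∧ ∀ z ∈ Q, y * z * y⁻¹ ∈ T
  T_S : ∀ x ∈ T, ∀ s ∈ S, x * s * x⁻¹ ∈ S
  cent : ∀ s ∈ S, s * t = t * s → s ∈ T
  cyc : ∃ f0 ∈ T, ∀ x ∈ T, ∃ n : ℕ, ∃ u ∈ S, u ∈ T ∧ (x = f0 ^ n * u ∨ x = f0 ^ n * u * t)
  lift : ∀ f ∈ T, ∃ u ∈ S, u ∈ T ∧ ∀ n : ℕ, ((u * f) ^ n ∈ S ∨ t * (u * f) ^ n ∈ S) → ((u * f) ^ n = 1 ∨ (u * f) ^ n = t)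
  A_norm : ∀ y, y * t = t * y → ∀ a ∈ A, y * a * y⁻¹ ∈ A
  U_A : ∀ s ∈ S, s ∈ T → s ∈ A
  A_T : ∀ a ∈ A, a ∈ T → a ∈ S

/-- The hypotheses of the end of the field case of `U₅(q)`. -/
structure End5 (F : Type*) [Field F] (S T : Subgroup G) (t : G) (A : Subgroup G) : Prop extends EndB S T t A where
  card : 16 ≤ Nat.card F
  e : Nonempty (S ≃* UT 5 F)
  rk : ∀ D : Subgroup G, D ≤ S → Ele D → (∀ x ∈ D, x * t = t * x) → Nat.card D ≤ Nat.card F ^ 2
  out : ∀ f ∈ T, (∀ s ∈ S, f * s * f⁻¹ * s⁻¹ ∈ ⁅S, S⁆) → f ∈ S ∨ t * f ∈ S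

theorem card_le_two_mul [Finite G] (D H : Subgroup G) (h : ∀ x ∈ D, ∀ y ∈ D, x ∉ H → y ∉ H → x * y ∈ H) :
    Nat.card D ≤ 2 * Nat.card (D ⊓ H : Subgroup G) := by
  classical
  by_cases hD : D ≤ H
  · rw [inf_eq_left.2 hD]
    have : 0 < Nat.card D := Nat.card_pos
    omega
  · obtain ⟨y, hy, hyH⟩ := SetLike.not_le_iff_exists.1 hD
    have hyi : y⁻¹ ∉ H := fun h => hyH (inv_mem_iff.1 h)
    let φ : D → (D ⊓ H : Subgroup G) × Bool := fun x =>
      if hx : (x : G) ∈ H then (⟨x, x.2, hx⟩, true) else (⟨y⁻¹ * x, D.mul_mem (D.inv_mem hy) x.2, h _ (D.inv_mem hy) _ x.2 hyi hx⟩, false)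
    have hinj : Function.Injective φ := by
      intro a b hab
      by_cases ha : (a : G) ∈ H <;> by_cases hb : (b : G) ∈ H
      · simp only [φ, dif_pos ha, dif_pos hb] at hab
        exact Subtype.ext (congrArg (fun z => ((z.1 : (D ⊓ H : Subgroup G)) : G)) hab)
      · simp only [φ, dif_pos ha, dif_neg hb] at hab
        exact absurd (congrArg Prod.snd hab) (by simp)
      · simp only [φ, dif_neg ha, dif_pos hb] at hab
        exact absurd (congrArg Prod.snd hab) (by simp)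
      · simp only [φ, dif_neg ha, dif_neg hb] at hab
        have h1 : y⁻¹ * (a : G) = y⁻¹ * b := congrArg (fun z => ((z.1 : (D ⊓ H : Subgroup G)) : G)) hab
        exact Subtype.ext (mul_left_cancel h1)
    have h1 := Nat.card_le_card_of_injective φ hinj
    rw [Nat.card_prod, Nat.card_eq_fintype_card (α := Bool), Fintype.card_bool] at h1
    omega

namespace EndB

variable {S T : Subgroup G} {t : G} {A : Subgroup G} (h : EndB S T t A)

include h

theorem t_inv : t⁻¹ = t := inv_eq_of_mul_eq_one_right h.t_sq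

/-- `U⟨t⟩` -/
def V : Subgroup G where
  carrier := {x | x ∈ T ∧ (x ∈ S ∨ t * x ∈ S)}
  one_mem' := ⟨one_mem _, Or.inl (one_mem _)⟩
  mul_mem' := by
    rintro x y ⟨hx, hx'⟩ ⟨hy, hy'⟩
    refine ⟨mul_mem hx hy, ?_⟩
    rcases hx' with hx' | hx' <;> rcases hy' with hy' | hy'
    · exact Or.inl (mul_mem hx' hy')
    · right
      have e : t * (x * y) = x * (t * y) := by rw [← mul_assoc, ← h.T_t x hx, mul_assoc]
      rw [e]; exact mul_mem hx' hy'
    · right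
      rw [← mul_assoc]; exact mul_mem hx' hy'
    · left
      have e : x * y = (t * x) * (t * y) := by
        calc x * y = x * (t * t) * y := by rw [h.t_sq]; group
          _ = (x * t) * (t * y) := by group
          _ = (t * x) * (t * y) := by rw [h.T_t x hx]
      rw [e]; exact mul_mem hx' hy'
  inv_mem' := by
    rintro x ⟨hx, hx'⟩
    refine ⟨inv_mem hx, ?_⟩
    rcases hx' with hx' | hx'
    · exact Or.inl (inv_mem hx')
    · right
      have e : t * x⁻¹ = (t * x)⁻¹ := by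
        have h1 := h.T_t x⁻¹ (inv_mem hx)
        rw [mul_inv_rev, h.t_inv, h1]
      rw [e]; exact inv_mem hx'

theorem mem_V {x : G} : x ∈ h.V ↔ x ∈ T ∧ (x ∈ S ∨ t * x ∈ S) := Iff.rfl

/-- `T / V` has at most one involution -/
theorem cyc2 [Finite G] {x y : G} (hx : x ∈ T) (hy : y ∈ T) (hx2 : x * x ∈ h.V) (hy2 : y * y ∈ h.V) (hyV : y ∉ h.V) :
    x ∈ h.V ∨ y⁻¹ * x ∈ h.V := by
  obtain ⟨f0, hf0, hgen⟩ := h.cyc
  have hVT : h.V ≤ T := fun x hx => hx.1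
  have hn : ∀ x ∈ T, ∀ v ∈ h.V, x * v * x⁻¹ ∈ h.V := by
    rintro x hx v ⟨hv, hv'⟩
    refine ⟨mul_mem (mul_mem hx hv) (inv_mem hx), ?_⟩
    rcases hv' with hv' | hv'
    · exact Or.inl (h.T_S x hx v hv')
    · right
      have e : t * (x * v * x⁻¹) = x * (t * v) * x⁻¹ := by
        calc t * (x * v * x⁻¹) = (t * x) * v * x⁻¹ := by group
          _ = x * (t * v) * x⁻¹ := by rw [← h.T_t x hx]; group
      rw [e]; exact h.T_S x hx _ hv'
  let V' := h.V.subgroupOf T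
  have hV' : V'.Normal := ⟨fun v hv x => by
    rw [Subgroup.mem_subgroupOf] at hv ⊢
    exact hn x x.2 v hv⟩
  have hcyc : IsCyclic (T ⧸ V') := by
    refine ⟨⟨QuotientGroup.mk ⟨f0, hf0⟩, fun z => ?_⟩⟩
    obtain ⟨z, rfl⟩ := QuotientGroup.mk_surjective z
    obtain ⟨n, u, hu, huT, hz⟩ := hgen z z.2
    refine ⟨(n : ℤ), ?_⟩
    show (QuotientGroup.mk ⟨f0, hf0⟩ : T ⧸ V') ^ (n : ℤ) = _
    rw [zpow_natCast, ← QuotientGroup.mk_pow, QuotientGroup.eq, Subgroup.mem_subgroupOf]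
    rcases hz with hz | hz
    · have e : (((⟨f0, hf0⟩ : T) ^ n)⁻¹ * z : G) = u := by
        rw [hz]; simp
      show (((⟨f0, hf0⟩ : T) ^ n)⁻¹ * z : G) ∈ h.V
      rw [e]
      exact ⟨huT, Or.inl hu⟩
    · have e : (((⟨f0, hf0⟩ : T) ^ n)⁻¹ * z : G) = u * t := by
        rw [hz]; simp [mul_assoc]
      show (((⟨f0, hf0⟩ : T) ^ n)⁻¹ * z : G) ∈ h.V
      rw [e]
      refine ⟨mul_mem huT h.t_mem, Or.inr ?_⟩
      have e2 : t * (u * t) = u := by
        rw [h.T_t u huT, ← mul_assoc, h.t_sq, one_mul]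
      rw [e2]; exact hu
  have key : ∀ z : T, (QuotientGroup.mk z : T ⧸ V') = 1 ↔ (z : G) ∈ h.V := by
    intro z
    rw [QuotientGroup.eq_one_iff, Subgroup.mem_subgroupOf]
  have h1 : (QuotientGroup.mk ⟨x, hx⟩ : T ⧸ V') ^ 2 = 1 := by
    rw [← QuotientGroup.mk_pow, key, pow_two]; exact hx2
  have h2 : (QuotientGroup.mk ⟨y, hy⟩ : T ⧸ V') ^ 2 = 1 := by
    rw [← QuotientGroup.mk_pow, key, pow_two]; exact hy2
  have h3 : (QuotientGroup.mk ⟨y, hy⟩ : T ⧸ V') ≠ 1 := fun h4 => hyV ((key _).1 h4)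
  have h4 : (QuotientGroup.mk ⟨x, hx⟩ : T ⧸ V') = 1 ∨
      (QuotientGroup.mk ⟨x, hx⟩ : T ⧸ V') = QuotientGroup.mk ⟨y, hy⟩ := by
    classical
    by_contra hcon
    push Not at hcon
    have := Fintype.ofFinite (T ⧸ V')
    have h5 := IsCyclic.card_pow_eq_one_le (α := T ⧸ V') (n := 2) (by norm_num)
    have h6 : ({1, QuotientGroup.mk ⟨x, hx⟩, QuotientGroup.mk ⟨y, hy⟩} : Finset (T ⧸ V')) ⊆
        Finset.univ.filter (fun a => a ^ 2 = 1) := by
      intro a ha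
      rw [Finset.mem_filter]
      refine ⟨Finset.mem_univ _, ?_⟩
      simp only [Finset.mem_insert, Finset.mem_singleton] at ha
      rcases ha with rfl | rfl | rfl
      · exact one_pow 2
      · exact h1
      · exact h2
    have h7 : ({1, QuotientGroup.mk ⟨x, hx⟩, QuotientGroup.mk ⟨y, hy⟩} : Finset (T ⧸ V')).card = 3 := by
      rw [Finset.card_eq_three]
      exact ⟨_, _, _, fun h => hcon.1 h.symm, fun h => h3 h.symm, hcon.2, rfl⟩
    have h8 := Finset.card_le_card h6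
    omega
  rcases h4 with h4 | h4
  · exact Or.inl ((key _).1 h4)
  · right
    rw [eq_comm, QuotientGroup.eq, Subgroup.mem_subgroupOf] at h4
    exact h4

variable [Finite G]

/-- the 2-group `P = S T` -/
theorem mem_P {x : G} : x ∈ S ⊔ T ↔ ∃ s ∈ S, ∃ τ ∈ T, x = s * τ := by
  constructor
  · intro hx
    have hn : T ≤ Subgroup.normalizer (S : Set G) := by
      intro x hx
      rw [Subgroup.mem_normalizer_iff]
      intro s
      refine ⟨h.T_S x hx s, fun hs => ?_⟩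
      have := h.T_S x⁻¹ (inv_mem hx) _ hs
      have e : x⁻¹ * (x * s * x⁻¹) * x⁻¹⁻¹ = s := by group
      rwa [e] at this
    have h1 : ((S ⊔ T : Subgroup G) : Set G) = (S : Set G) * (T : Set G) :=
      Subgroup.coe_mul_of_right_le_normalizer_left S T hn
    have hx' : x ∈ (S : Set G) * (T : Set G) := by rw [← h1]; exact hx
    obtain ⟨s, hs, τ, hτ, rfl⟩ := hx'
    exact ⟨s, hs, τ, hτ, rfl⟩
  · rintro ⟨s, hs, τ, hτ, rfl⟩
    exact mul_mem (Subgroup.mem_sup_left hs) (Subgroup.mem_sup_right hτ)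

theorem P_S {p : G} (hp : p ∈ S ⊔ T) : ∀ s ∈ S, p * s * p⁻¹ ∈ S := by
  obtain ⟨x, hx, τ, hτ, rfl⟩ := h.mem_P.1 hp
  intro s hs
  have e : x * τ * s * (x * τ)⁻¹ = x * (τ * s * τ⁻¹) * x⁻¹ := by group
  rw [e]
  exact mul_mem (mul_mem hx (h.T_S τ hτ s hs)) (inv_mem hx)

theorem P2 : IsPGroup 2 (S ⊔ T : Subgroup G) := by
  have hn : T ≤ Subgroup.normalizer (S : Set G) := by
    intro x hx
    rw [Subgroup.mem_normalizer_iff]
    intro s
    refine ⟨h.T_S x hx s, fun hs => ?_⟩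
    have := h.T_S x⁻¹ (inv_mem hx) _ hs
    have e : x⁻¹ * (x * s * x⁻¹) * x⁻¹⁻¹ = s := by group
    rwa [e] at this
  rw [sup_comm]
  exact IsPGroup.to_sup_of_normal_right' h.T2 h.S2 hn

theorem exists_sylow (star : ∀ g : G, g * t * g⁻¹ ∈ S ⊔ T → ∃ x ∈ S, g * t * g⁻¹ = x * t * x⁻¹) :
    ∃ P : Sylow 2 G, (P : Subgroup G) = S ⊔ T := by
  have htP : t ∈ S ⊔ T := Subgroup.mem_sup_right h.t_mem
  refine StdEven.OuterKill.exists_sylow h.P2 le_sup_left htP star ?_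
  intro Q hQ hQt hle
  have hTQ : T ≤ Q := fun x hx => hle x (Subgroup.mem_sup_right hx) (h.T_t x hx)
  obtain ⟨y, hyt, hy⟩ := h.syl Q hQ hQt
  have h1 : Nat.card Q ≤ Nat.card T := by
    rw [Nat.card_congr (Subgroup.equivMapOfInjective Q (MulAut.conj y).toMonoidHom (MulAut.conj y).injective).toEquiv]
    apply Subgroup.card_le_of_le
    rintro _ ⟨z, hz, rfl⟩
    exact hy z hz
  have h2 : T = Q := Subgroup.eq_of_le_of_card_ge hTQ h1
  rw [← h2]
  exact le_sup_right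

/-- `P / S` is abelian -/
theorem comm {P : Subgroup G} (hP : P = S ⊔ T) [hn : (S.subgroupOf P).Normal] (a b : P ⧸ S.subgroupOf P) :
    a * b = b * a := by
  subst hP
  obtain ⟨f0, hf0, hgen⟩ := h.cyc
  have htP : t ∈ S ⊔ T := Subgroup.mem_sup_right h.t_mem
  have hf0P : f0 ∈ S ⊔ T := Subgroup.mem_sup_right hf0
  let f : (S ⊔ T : Subgroup G) ⧸ S.subgroupOf (S ⊔ T) := QuotientGroup.mk ⟨f0, hf0P⟩
  let τ : (S ⊔ T : Subgroup G) ⧸ S.subgroupOf (S ⊔ T) := QuotientGroup.mk ⟨t, htP⟩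
  have hfτ : f * τ = τ * f :=
    congrArg (QuotientGroup.mk (s := S.subgroupOf (S ⊔ T)))
      (show (⟨f0, hf0P⟩ * ⟨t, htP⟩ : (S ⊔ T : Subgroup G)) = ⟨t, htP⟩ * ⟨f0, hf0P⟩ from
        Subtype.ext (h.T_t f0 hf0))
  have hall : ∀ a : (S ⊔ T : Subgroup G) ⧸ S.subgroupOf (S ⊔ T), ∃ n : ℕ, a = f ^ n ∨ a = f ^ n * τ := by
    intro a
    obtain ⟨a, rfl⟩ := QuotientGroup.mk_surjective a
    obtain ⟨s, hs, x, hx, ha⟩ := h.mem_P.1 a.2
    obtain ⟨n, u, hu, huT, hxu⟩ := hgen x hx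
    have key : ∀ y : (S ⊔ T : Subgroup G), x⁻¹ * y ∈ S → (QuotientGroup.mk a : _ ⧸ S.subgroupOf (S ⊔ T)) = QuotientGroup.mk y := by
      intro y hy
      rw [QuotientGroup.eq, Subgroup.mem_subgroupOf]
      show (a : G)⁻¹ * y ∈ S
      rw [ha]
      have e : (s * x)⁻¹ * (y : G) = x⁻¹ * s⁻¹ * x⁻¹⁻¹ * (x⁻¹ * y) := by group
      rw [e]
      exact mul_mem (h.T_S _ (inv_mem hx) _ (inv_mem hs)) hy
    refine ⟨n, ?_⟩
    rcases hxu with hxu | hxu
    · left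
      rw [key (⟨f0, hf0P⟩ ^ n) (by
        show x⁻¹ * f0 ^ n ∈ S
        rw [hxu]
        have e : (f0 ^ n * u)⁻¹ * f0 ^ n = u⁻¹ := by group
        rw [e]; exact inv_mem hu)]
      rfl
    · right
      rw [key (⟨f0, hf0P⟩ ^ n * ⟨t, htP⟩) (by
        show x⁻¹ * (f0 ^ n * t) ∈ S
        rw [hxu]
        have e : (f0 ^ n * u * t)⁻¹ * (f0 ^ n * t) = t⁻¹ * u⁻¹ * t⁻¹⁻¹ := by group
        rw [e]; exact h.T_S _ (inv_mem h.t_mem) _ (inv_mem hu))]
      rfl
  have hfc : ∀ n m : ℕ, f ^ n * f ^ m = f ^ m * f ^ n := fun n m => by rw [← pow_add, ← pow_add, add_comm]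
  have hft : ∀ n : ℕ, f ^ n * τ = τ * f ^ n := fun n => (Commute.pow_left hfτ n)
  obtain ⟨n, ha | ha⟩ := hall a <;> obtain ⟨m, hb | hb⟩ := hall b <;> rw [ha, hb]
  · exact hfc n m
  · rw [← mul_assoc, hfc, mul_assoc, hft, ← mul_assoc, mul_assoc, ← hft, ← mul_assoc]
  · rw [mul_assoc, ← hft, ← mul_assoc, hfc, mul_assoc]
  · calc f ^ n * τ * (f ^ m * τ) = f ^ n * (τ * f ^ m) * τ := by group
      _ = f ^ n * (f ^ m * τ) * τ := by rw [hft]
      _ = (f ^ n * f ^ m) * τ * τ := by group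
      _ = (f ^ m * f ^ n) * τ * τ := by rw [hfc]
      _ = f ^ m * (f ^ n * τ) * τ := by group
      _ = f ^ m * (τ * f ^ n) * τ := by rw [hft]
      _ = _ := by group

/-- an involution of `T ∩ L` outside `S` -/
theorem exists_invol {L : Subgroup G} [L.Normal] (htL : t ∉ L) (hSL : S ≤ L) {z : G} (hz : z ∈ S ⊔ T) (hzL : z ∈ L)
    (hzS : z ∉ S) : ∃ f ∈ T, f ∈ L ∧ f * f = 1 ∧ f ∉ S := by
  classical
  obtain ⟨s, hs, x, hx, rfl⟩ := h.mem_P.1 hz
  have hxL : x ∈ L := (mul_mem_cancel_left (hSL hs)).1 hzL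
  have hxS : x ∉ S := fun h1 => hzS (mul_mem hs h1)
  obtain ⟨m, hm⟩ := h.T2 ⟨x, hx⟩
  have hm' : x ^ 2 ^ m = 1 := congrArg Subtype.val hm
  have hex : ∃ k, x ^ 2 ^ k ∈ S := ⟨m, by rw [hm']; exact one_mem _⟩
  let k := Nat.find hex
  have hk : x ^ 2 ^ k ∈ S := Nat.find_spec hex
  have hk0 : k ≠ 0 := by
    intro h0
    rw [h0] at hk
    simp at hk
    exact hxS hk
  obtain ⟨j, hj⟩ := Nat.exists_eq_succ_of_ne_zero hk0
  have hj1 : x ^ 2 ^ j ∉ S := Nat.find_min hex (by omega)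
  set y := x ^ 2 ^ j with hy
  have hyT : y ∈ T := pow_mem hx _
  have hyL : y ∈ L := pow_mem hxL _
  have hy2 : y * y ∈ S := by
    have e : y * y = x ^ 2 ^ k := by
      rw [hj, hy, ← pow_add, Nat.succ_eq_add_one]
      congr 1
      ring
    rw [e]; exact hk
  obtain ⟨u, hu, huT, hlift⟩ := h.lift y hyT
  have hu2 : (u * y) ^ 2 ∈ S := by
    have e : (u * y) ^ 2 = u * (y * u * y⁻¹) * (y * y) := by rw [pow_two]; group
    rw [e]
    exact mul_mem (mul_mem hu (h.T_S y hyT u hu)) hy2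
  refine ⟨u * y, mul_mem huT hyT, mul_mem (hSL hu) hyL, ?_, fun h1 => hj1 ((mul_mem_cancel_left hu).1 h1)⟩
  rcases hlift 2 (Or.inl hu2) with h1 | h1
  · rw [← pow_two]; exact h1
  · exfalso
    apply htL
    rw [← h1]
    exact pow_mem (mul_mem (hSL hu) hyL) 2

/-- **The end from (★).** -/
theorem main (htS : t ∉ S) (star : ∀ g : G, g * t * g⁻¹ ∈ S ⊔ T → ∃ x ∈ S, g * t * g⁻¹ = x * t * x⁻¹)
    {L : Subgroup G} [hLn : L.Normal] (hL : commutator L = ⊤) (hSL : S ≤ L) :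
    t ∉ L ∧ ∃ P : Sylow 2 G, (P : Subgroup G) = S ⊔ T ∧ (P : Subgroup G) ⊓ L = S := by
  obtain ⟨P, hP⟩ := h.exists_sylow star
  have htP : t ∈ (P : Subgroup G) := by rw [hP]; exact Subgroup.mem_sup_right h.t_mem
  have hSP : S ≤ (P : Subgroup G) := by rw [hP]; exact le_sup_left
  have hn : (S.subgroupOf (P : Subgroup G)).Normal := ⟨fun s hs x => by
    rw [Subgroup.mem_subgroupOf] at hs ⊢
    exact h.P_S (by rw [← hP]; exact x.2) s hs⟩
  letI : CommGroup ((P : Subgroup G) ⧸ S.subgroupOf (P : Subgroup G)) :=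
    { (inferInstance : Group ((P : Subgroup G) ⧸ S.subgroupOf (P : Subgroup G))) with
      mul_comm := h.comm hP }
  let φ : (P : Subgroup G) →* (P : Subgroup G) ⧸ S.subgroupOf (P : Subgroup G) := QuotientGroup.mk' _
  have hφ : ∀ x : (P : Subgroup G), φ x = 1 ↔ (x : G) ∈ S := by
    intro x
    show (QuotientGroup.mk x : (P : Subgroup G) ⧸ S.subgroupOf (P : Subgroup G)) = 1 ↔ _
    rw [QuotientGroup.eq_one_iff, Subgroup.mem_subgroupOf]
  have hstar : ∀ g : G, g * t * g⁻¹ ∈ (P : Subgroup G) → ∃ x ∈ S, g * t * g⁻¹ = x * t * x⁻¹ := by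
    intro g hg
    exact star g (by rw [← hP]; exact hg)
  have htL : t ∉ L := StdEven.OuterKill.not_mem hSP h.t_sq htP hstar hL φ
    (fun h1 => htS ((hφ _).1 h1))
  refine ⟨htL, P, hP, ?_⟩
  apply le_antisymm _ (le_inf hSP hSL)
  intro z hz
  by_contra hzS
  obtain ⟨f, hfT, hfL, hf2, hfS⟩ := h.exists_invol htL hSL (by rw [← hP]; exact hz.1) hz.2 hzS
  have hfP : f ∈ (P : Subgroup G) := by rw [hP]; exact Subgroup.mem_sup_right hfT
  let ψ : ↥((P : Subgroup G) ⊓ L) →* (P : Subgroup G) ⧸ S.subgroupOf (P : Subgroup G) :=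
    φ.comp (Subgroup.inclusion inf_le_left)
  -- an element of `V ∩ L` is in `S`
  have hVL : ∀ x ∈ h.V, x ∈ L → x ∈ S := by
    rintro x ⟨-, hx⟩ hxL
    rcases hx with hx | hx
    · exact hx
    · exact absurd ((mul_mem_cancel_right hxL).1 (hSL hx)) htL
  obtain ⟨y, hyt, hy⟩ := StdEven.OuterKill.no_outer (P := P) (T := S) (L := L) h.t_sq htP (h.T_S t h.t_mem) hstar hL ψ
    (fun z hz => hφ _) hf2 (h.T_t f hfT) (Subgroup.mem_inf.2 ⟨hfP, hfL⟩) hfS (by
      intro w hw hw2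
      have hwP := (Subgroup.mem_inf.1 hw).1
      have hwL := (Subgroup.mem_inf.1 hw).2
      obtain ⟨s, hs, x, hx, hwx⟩ := h.mem_P.1 (by rw [← hP]; exact hwP)
      have hxL : x ∈ L := by
        have := hwL
        rw [hwx] at this
        exact (mul_mem_cancel_left (hSL hs)).1 this
      have hx2 : x * x ∈ h.V := by
        refine ⟨mul_mem hx hx, Or.inl ?_⟩
        have e : x * x = (x * s * x⁻¹)⁻¹ * s⁻¹ * (w * w) := by rw [hwx]; group
        rw [e, hw2, mul_one]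
        exact mul_mem (inv_mem (h.T_S x hx s hs)) (inv_mem hs)
      have hf2' : f * f ∈ h.V := by rw [hf2]; exact one_mem _
      rcases h.cyc2 hx hfT hx2 hf2' (fun h1 => hfS (hVL f h1 hfL)) with h1 | h1
      · left
        refine (hφ _).2 ?_
        show w ∈ S
        rw [hwx]
        exact mul_mem hs (hVL x h1 hxL)
      · right
        have h2 := hVL _ h1 (mul_mem (inv_mem hfL) hxL)
        show QuotientGroup.mk _ = (QuotientGroup.mk _ : (P : Subgroup G) ⧸ S.subgroupOf (P : Subgroup G))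
        rw [eq_comm, QuotientGroup.eq, Subgroup.mem_subgroupOf]
        show f⁻¹ * w ∈ S
        rw [hwx]
        have e : f⁻¹ * (s * x) = (f⁻¹ * s * f⁻¹⁻¹) * (f⁻¹ * x) := by group
        rw [e]
        exact mul_mem (h.T_S _ (inv_mem hfT) s hs) h2)
  -- `f` would be in `A`
  have h1 : y * f * y⁻¹ ∈ T := by
    apply h.cent _ hy
    have h2 := h.T_t f hfT
    have h3 : y⁻¹ * t = t * y⁻¹ := by
      calc y⁻¹ * t = y⁻¹ * (t * y) * y⁻¹ := by group
        _ = y⁻¹ * (y * t) * y⁻¹ := by rw [hyt]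
        _ = t * y⁻¹ := by group
    calc y * f * y⁻¹ * t = y * f * (y⁻¹ * t) := by group
      _ = y * (f * t) * y⁻¹ := by rw [h3]; group
      _ = (y * t) * f * y⁻¹ := by rw [h2]; group
      _ = t * (y * f * y⁻¹) := by rw [hyt]; group
  have h2 := h.U_A _ hy h1
  have h3 : y⁻¹ * t = t * y⁻¹ := by
    calc y⁻¹ * t = y⁻¹ * (t * y) * y⁻¹ := by group
      _ = y⁻¹ * (y * t) * y⁻¹ := by rw [hyt]
      _ = t * y⁻¹ := by group
  have h4 := h.A_norm _ h3 _ h2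
  have e : y⁻¹ * (y * f * y⁻¹) * y⁻¹⁻¹ = f := by group
  rw [e] at h4
  exact hfS (h.A_T f h4 hfT)

end EndB

namespace End5

variable {F : Type*} [Field F] {S T : Subgroup G} {t : G} {A : Subgroup G} (h : End5 F S T t A)

include h

variable [Finite G]

/-- elementary subgroups of `C(t)` are small -/
theorem hrank (D : Subgroup G) (h1 : ∀ x ∈ D, x * x = 1) (h2 : ∀ x ∈ D, ∀ y ∈ D, x * y = y * x)
    (h3 : ∀ x ∈ D, x * t = t * x) : Nat.card D < Nat.card F ^ 3 := by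
  have hD2 : IsPGroup 2 D := by
    intro x
    exact ⟨1, by rw [pow_one, pow_two]; exact Subtype.ext (h1 x x.2)⟩
  obtain ⟨y, hyt, hy⟩ := h.syl D hD2 h3
  let D' : Subgroup G := D.map (MulAut.conj y).toMonoidHom
  have hD : ∀ x ∈ D', ∃ z ∈ D, x = y * z * y⁻¹ := by
    rintro x ⟨z, hz, rfl⟩
    exact ⟨z, hz, rfl⟩
  have e1 : Nat.card D' = Nat.card D :=
    (Nat.card_congr (Subgroup.equivMapOfInjective _ _ (MulAut.conj y).injective).toEquiv).symm
  have hDT : D' ≤ T := by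
    intro x hx
    obtain ⟨z, hz, rfl⟩ := hD x hx
    exact hy z hz
  have g1 : ∀ x ∈ D', x * x = 1 := by
    intro x hx
    obtain ⟨z, hz, rfl⟩ := hD x hx
    calc y * z * y⁻¹ * (y * z * y⁻¹) = y * (z * z) * y⁻¹ := by group
      _ = 1 := by rw [h1 z hz]; group
  have g2 : ∀ x ∈ D', ∀ x' ∈ D', x * x' = x' * x := by
    intro x hx x' hx'
    obtain ⟨z, hz, rfl⟩ := hD x hx
    obtain ⟨z', hz', rfl⟩ := hD x' hx'
    calc y * z * y⁻¹ * (y * z' * y⁻¹) = y * (z * z') * y⁻¹ := by group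
      _ = y * (z' * z) * y⁻¹ := by rw [h2 z hz z' hz']
      _ = _ := by group
  have b1 := card_le_two_mul D' h.V (by
    intro x hx x' hx' hxV hxV'
    have sq : ∀ z ∈ D', z * z ∈ h.V := fun z hz => by rw [g1 z hz]; exact one_mem _
    have hi : x⁻¹ = x := inv_eq_of_mul_eq_one_right (g1 x hx)
    have := (h.cyc2 (hDT hx') (hDT hx) (sq _ hx') (sq _ hx) hxV).resolve_left hxV'
    rwa [hi] at this)
  have b2 := card_le_two_mul (D' ⊓ h.V) S (by
    rintro x ⟨-, hxV⟩ x' ⟨-, hxV'⟩ hxS hxS'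
    have e2 := hxV.2.resolve_left hxS
    have e3 := hxV'.2.resolve_left hxS'
    have e : x * x' = (t * x) * (t * x') := by
      calc x * x' = x * (t * t) * x' := by rw [h.t_sq]; group
        _ = (x * t) * (t * x') := by group
        _ = (t * x) * (t * x') := by rw [h.T_t x hxV.1]
    rw [e]; exact mul_mem e2 e3)
  have b3 := h.rk (D' ⊓ h.V ⊓ S) inf_le_right ⟨fun x hx => g1 x hx.1.1, fun x hx y hy => g2 x hx.1.1 y hy.1.1⟩
    (fun x hx => h.T_t x (hDT hx.1.1))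
  rw [← e1]
  have hc := h.card
  calc Nat.card D' ≤ 2 * (2 * Nat.card F ^ 2) := by omega
    _ = 4 * Nat.card F ^ 2 := by ring
    _ < Nat.card F * Nat.card F ^ 2 := Nat.mul_lt_mul_of_pos_right (by omega) (by positivity)
    _ = _ := by ring

variable [CharP F 2] [Finite F]

theorem star (g : G) (hg : g * t * g⁻¹ ∈ S ⊔ T) : ∃ x ∈ S, g * t * g⁻¹ = x * t * x⁻¹ := by
  obtain ⟨e⟩ := h.e
  obtain ⟨s0, hs0, τ0, hτ0, hgs⟩ := h.mem_P.1 hg
  obtain ⟨n, hn⟩ := h.P2 ⟨t * (g * t * g⁻¹), mul_mem (Subgroup.mem_sup_right h.t_mem) hg⟩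
  exact UClose.star e (by have := h.card; omega) h.T2 h.t_sq h.t_mem h.T_S h.hrank
    (fun D h1 h2 h3 h4 => h.rk D h1 ⟨h2, h3⟩ h4) h.out g hs0 hτ0 hgs (n := n) (congrArg Subtype.val hn)

theorem t_not_mem : t ∉ S := by
  intro hts
  obtain ⟨e⟩ := h.e
  have htN := h.T_S t h.t_mem
  rcases big_or (by have := h.card; omega) (act_invol e h.t_sq htN) with hb | ⟨hc, -⟩
  · obtain ⟨D, -, h1, h2, h3, h4⟩ := exists_big e hb
    have := h.hrank D h1 h2 h3
    omega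
  · exact not_cr_of_mem e hts hc

/-- **End of the field case.** -/
theorem main {L : Subgroup G} [hLn : L.Normal] (hL : commutator L = ⊤) (hSL : S ≤ L) :
    t ∉ L ∧ ∃ P : Sylow 2 G, (P : Subgroup G) = S ⊔ T ∧ (P : Subgroup G) ⊓ L = S :=
  h.toEndB.main h.t_not_mem h.star hL hSL

end End5

end Cfsg.Agent.StdRank2.UClose
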