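import Cfsg.Agent.SylowL.CoordAut
import Cfsg.Agent.SylowL.Dual
import Cfsg.Agent.StdRank2.OutField

/-!
# S1778, type `U₅(q)`, field case: automorphisms of `UT 5 F`

The ten entries of an element of `UT 5 F`; the subgroups `Q` (entries `01`, `34` zero), `E1`, `E2`, `W`;
straight and crossed automorphisms.
-/

set_option autoImplicit false
set_option linter.unusedSectionVars false
set_option linter.unusedSimpArgs false

namespace Cfsg.Agent.StdRank2.UClose

open Matrix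
open scoped commutatorElement
open Cfsg.Agent.SylowL.Lev Cfsg.Agent.SylowL.UT Cfsg.Agent.SylowL.Pat
open Cfsg.Agent.SylowL.CoordBase Cfsg.Agent.SylowL.CoordCf Cfsg.Agent.SylowL.CoordEnds
open Cfsg.Agent.SylowL.CoordField Cfsg.Agent.SylowL.CoordAut

variable {F : Type*} [Field F]

/-! ### Entries -/

theorem Nz (g : UT 5 F) {i j : Fin 5} (h : (j : ℕ) < i + 1) : N g i j = 0 :=
  Cfsg.Agent.SylowL.Lev.apply_eq_zero (N_mem g) h

theorem z00 (g : UT 5 F) : N g 0 0 = 0 := Nz g (by decide)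
theorem z10 (g : UT 5 F) : N g 1 0 = 0 := Nz g (by decide)
theorem z11 (g : UT 5 F) : N g 1 1 = 0 := Nz g (by decide)
theorem z20 (g : UT 5 F) : N g 2 0 = 0 := Nz g (by decide)
theorem z21 (g : UT 5 F) : N g 2 1 = 0 := Nz g (by decide)
theorem z22 (g : UT 5 F) : N g 2 2 = 0 := Nz g (by decide)
theorem z30 (g : UT 5 F) : N g 3 0 = 0 := Nz g (by decide)
theorem z31 (g : UT 5 F) : N g 3 1 = 0 := Nz g (by decide)
theorem z32 (g : UT 5 F) : N g 3 2 = 0 := Nz g (by decide)
theorem z33 (g : UT 5 F) : N g 3 3 = 0 := Nz g (by decide)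
theorem z40 (g : UT 5 F) : N g 4 0 = 0 := Nz g (by decide)
theorem z41 (g : UT 5 F) : N g 4 1 = 0 := Nz g (by decide)
theorem z42 (g : UT 5 F) : N g 4 2 = 0 := Nz g (by decide)
theorem z43 (g : UT 5 F) : N g 4 3 = 0 := Nz g (by decide)
theorem z44 (g : UT 5 F) : N g 4 4 = 0 := Nz g (by decide)

theorem cf0 (g : UT 5 F) : cf g 0 = N g 0 1 := (cf_eq g 0 1 rfl).symm
theorem cf1 (g : UT 5 F) : cf g 1 = N g 1 2 := (cf_eq g 1 2 rfl).symm
theorem cf2 (g : UT 5 F) : cf g 2 = N g 2 3 := (cf_eq g 2 3 rfl).symm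
theorem cf3 (g : UT 5 F) : cf g 3 = N g 3 4 := (cf_eq g 3 4 rfl).symm

theorem ext5 {g h : UT 5 F} (h01 : N g 0 1 = N h 0 1) (h02 : N g 0 2 = N h 0 2) (h03 : N g 0 3 = N h 0 3)
    (h04 : N g 0 4 = N h 0 4) (h12 : N g 1 2 = N h 1 2) (h13 : N g 1 3 = N h 1 3) (h14 : N g 1 4 = N h 1 4)
    (h23 : N g 2 3 = N h 2 3) (h24 : N g 2 4 = N h 2 4) (h34 : N g 3 4 = N h 3 4) : g = h := by
  apply N_injective
  ext i j
  fin_cases i <;> fin_cases j <;>
    first
      | assumption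
      | exact (Nz g (by decide)).trans (Nz h (by decide)).symm

macro "entry" g:term ", " h:term : tactic =>
  `(tactic| (rw [N_mul, Matrix.add_apply, Matrix.add_apply, Matrix.mul_apply, Fin.sum_univ_five]
             simp only [z00, z10, z11, z20, z21, z22, z30, z31, z32, z33, z40, z41, z42, z43, z44,
               zero_mul, mul_zero, add_zero, zero_add]))

theorem m01 (g h : UT 5 F) : N (g * h) 0 1 = N g 0 1 + N h 0 1 := by entry g, h
theorem m12 (g h : UT 5 F) : N (g * h) 1 2 = N g 1 2 + N h 1 2 := by entry g, h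
theorem m23 (g h : UT 5 F) : N (g * h) 2 3 = N g 2 3 + N h 2 3 := by entry g, h
theorem m34 (g h : UT 5 F) : N (g * h) 3 4 = N g 3 4 + N h 3 4 := by entry g, h
theorem m02 (g h : UT 5 F) : N (g * h) 0 2 = N g 0 2 + N h 0 2 + N g 0 1 * N h 1 2 := by entry g, h
theorem m13 (g h : UT 5 F) : N (g * h) 1 3 = N g 1 3 + N h 1 3 + N g 1 2 * N h 2 3 := by entry g, h
theorem m24 (g h : UT 5 F) : N (g * h) 2 4 = N g 2 4 + N h 2 4 + N g 2 3 * N h 3 4 := by entry g, h
theorem m03 (g h : UT 5 F) : N (g * h) 0 3 = N g 0 3 + N h 0 3 + (N g 0 1 * N h 1 3 + N g 0 2 * N h 2 3) := by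
  entry g, h
theorem m14 (g h : UT 5 F) : N (g * h) 1 4 = N g 1 4 + N h 1 4 + (N g 1 2 * N h 2 4 + N g 1 3 * N h 3 4) := by
  entry g, h
theorem m04 (g h : UT 5 F) : N (g * h) 0 4 = N g 0 4 + N h 0 4 +
    (N g 0 1 * N h 1 4 + N g 0 2 * N h 2 4 + N g 0 3 * N h 3 4) := by
  entry g, h

/-! ### Elements of `Q` -/

/-- The element with the given entries. -/
def qm (u v : F × F) (a b c d : F) : UT 5 F :=
  mk (fun i j => if i = 0 ∧ j = 2 then u.1 else if i = 1 ∧ j = 2 then u.2 else if i = 2 ∧ j = 3 then v.1 else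
    if i = 2 ∧ j = 4 then v.2 else if i = 0 ∧ j = 3 then a else if i = 0 ∧ j = 4 then b else
    if i = 1 ∧ j = 3 then c else if i = 1 ∧ j = 4 then d else 0) (by
      intro i j h
      fin_cases i <;> fin_cases j <;> simp_all)

theorem N_qm (u v : F × F) (a b c d : F) : N (qm u v a b c d) = fun i j => if i = 0 ∧ j = 2 then u.1 else
    if i = 1 ∧ j = 2 then u.2 else if i = 2 ∧ j = 3 then v.1 else
    if i = 2 ∧ j = 4 then v.2 else if i = 0 ∧ j = 3 then a else if i = 0 ∧ j = 4 then b else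
    if i = 1 ∧ j = 3 then c else if i = 1 ∧ j = 4 then d else 0 := N_mk _ _

section qm

variable (u v : F × F) (a b c d : F)

@[simp] theorem q01 : N (qm u v a b c d) 0 1 = 0 := by rw [N_qm]; simp
@[simp] theorem q34 : N (qm u v a b c d) 3 4 = 0 := by rw [N_qm]; simp
@[simp] theorem q02 : N (qm u v a b c d) 0 2 = u.1 := by rw [N_qm]; simp
@[simp] theorem q12 : N (qm u v a b c d) 1 2 = u.2 := by rw [N_qm]; simp
@[simp] theorem q23 : N (qm u v a b c d) 2 3 = v.1 := by rw [N_qm]; simp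
@[simp] theorem q24 : N (qm u v a b c d) 2 4 = v.2 := by rw [N_qm]; simp
@[simp] theorem q03 : N (qm u v a b c d) 0 3 = a := by rw [N_qm]; simp
@[simp] theorem q04 : N (qm u v a b c d) 0 4 = b := by rw [N_qm]; simp
@[simp] theorem q13 : N (qm u v a b c d) 1 3 = c := by rw [N_qm]; simp
@[simp] theorem q14 : N (qm u v a b c d) 1 4 = d := by rw [N_qm]; simp

end qm

theorem qm_mul (u v u' v' : F × F) (a b c d a' b' c' d' : F) : qm u v a b c d * qm u' v' a' b' c' d' =
    qm (u + u') (v + v') (a + a' + u.1 * v'.1) (b + b' + u.1 * v'.2) (c + c' + u.2 * v'.1)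
      (d + d' + u.2 * v'.2) := by
  apply ext5 <;> simp only [m01, m02, m03, m04, m12, m13, m14, m23, m24, m34, q01, q02, q03, q04, q12, q13, q14,
    q23, q24, q34, zero_mul, mul_zero, add_zero, zero_add, Prod.fst_add, Prod.snd_add]

/-- Every element of `Q` is of this form. -/
theorem eq_qm {g : UT 5 F} (h0 : cf g 0 = 0) (h3 : cf g 3 = 0) :
    g = qm (N g 0 2, N g 1 2) (N g 2 3, N g 2 4) (N g 0 3) (N g 0 4) (N g 1 3) (N g 1 4) := by
  rw [cf0] at h0
  rw [cf3] at h3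
  apply ext5 <;> simp [h0, h3]

theorem qm_inj {u v u' v' : F × F} {a b c d a' b' c' d' : F} (h : qm u v a b c d = qm u' v' a' b' c' d') :
    u = u' ∧ v = v' ∧ a = a' ∧ b = b' ∧ c = c' ∧ d = d' := by
  have k := fun i j => congrArg (fun g => N g i j) h
  have k02 := k 0 2
  have k12 := k 1 2
  have k23 := k 2 3
  have k24 := k 2 4
  have k03 := k 0 3
  have k04 := k 0 4
  have k13 := k 1 3
  have k14 := k 1 4
  simp only [q02, q03, q04, q12, q13, q14, q23, q24] at k02 k12 k23 k24 k03 k04 k13 k14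
  exact ⟨Prod.ext k02 k12, Prod.ext k23 k24, k03, k04, k13, k14⟩

theorem qm_one : qm (0 : F × F) 0 0 0 0 0 = 1 := by
  apply ext5 <;> simp

end Cfsg.Agent.StdRank2.UClose
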