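import Cfsg.Agent.StdRank2.UClose.Layer

/-!
# S1778, type `U₅(q)`, field case: `t^G ∩ P = t^S`

`S ≅ UT 5 F` is a 2-subgroup of `G`, `T` a 2-subgroup of `C_G(t)` normalising `S`.
-/

set_option autoImplicit false
set_option linter.unusedSectionVars false
set_option linter.unusedSimpArgs false

namespace Cfsg.Agent.StdRank2.UClose

open Matrix
open scoped commutatorElement
open Cfsg.Agent.SylowL.Lev Cfsg.Agent.SylowL.UT Cfsg.Agent.SylowL.Pat
open Cfsg.Agent.SylowL.CoordBase Cfsg.Agent.SylowL.CoordCf Cfsg.Agent.SylowL.CoordEnds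
open Cfsg.Agent.SylowL.CoordField Cfsg.Agent.SylowL.CoordAut

/-! ### Fixed points of an involution on an elementary abelian group -/

theorem card_le_sq {H : Type*} [Group H] [Finite H] (E : Subgroup H) (hsq : ∀ x ∈ E, x * x = 1)
    (hcomm : ∀ x ∈ E, ∀ y ∈ E, x * y = y * x) (f : H ≃* H) (h2 : ∀ x, f (f x) = x) (hE : ∀ x ∈ E, f x ∈ E) :
    ∃ D : Subgroup H, D ≤ E ∧ (∀ x ∈ D, f x = x) ∧ Nat.card E ≤ Nat.card D ^ 2 := by
  let φ : E →* E :=
    { toFun := fun x => ⟨f x * x, mul_mem (hE _ x.2) x.2⟩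
      map_one' := Subtype.ext (by simp)
      map_mul' := fun x y => by
        apply Subtype.ext
        simp only [Subgroup.coe_mul, map_mul]
        have h1 := hcomm (f y) (hE _ y.2) x x.2
        calc f x * f y * (x * y) = f x * (f y * x) * y := by group
          _ = f x * (x * f y) * y := by rw [h1]
          _ = f x * x * (f y * y) := by group }
  let C : Subgroup H :=
    { carrier := {x | x ∈ E ∧ f x = x}
      mul_mem' := fun {x y} hx hy => ⟨mul_mem hx.1 hy.1, by rw [map_mul, hx.2, hy.2]⟩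
      one_mem' := ⟨one_mem _, map_one f⟩
      inv_mem' := fun {x} hx => ⟨inv_mem hx.1, by rw [map_inv, hx.2]⟩ }
  have hker : φ.ker = C.subgroupOf E := by
    ext x
    rw [MonoidHom.mem_ker, Subgroup.mem_subgroupOf]
    constructor
    · intro h
      have h1 : f x * x = 1 := congrArg Subtype.val h
      refine ⟨x.2, ?_⟩
      have h3 := eq_inv_of_mul_eq_one_left h1
      rw [h3, inv_eq_of_mul_eq_one_left (hsq x x.2)]
    · intro h
      apply Subtype.ext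
      show f x * x = 1
      rw [h.2, hsq x x.2]
  have hran : φ.range ≤ C.subgroupOf E := by
    rintro _ ⟨x, rfl⟩
    rw [Subgroup.mem_subgroupOf]
    refine ⟨(φ x).2, ?_⟩
    show f (f x * x) = f x * x
    rw [map_mul, h2]
    exact hcomm _ x.2 _ (hE _ x.2)
  have hCW : Nat.card (C.subgroupOf E) = Nat.card C :=
    Nat.card_congr (Subgroup.subgroupOfEquivOfLe (show C ≤ E from fun x hx => hx.1)).toEquiv
  have hcard : Nat.card φ.ker * Nat.card φ.range = Nat.card E := by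
    rw [← Subgroup.index_ker, Subgroup.card_mul_index]
  refine ⟨C, fun x hx => hx.1, fun x hx => hx.2, ?_⟩
  rw [← hcard, hker, hCW, pow_two]
  exact Nat.mul_le_mul_left _ (hCW ▸ Subgroup.card_le_of_le hran)

/-! ### Model statement -/

variable {F : Type*} [Field F] [CharP F 2]

theorem exists_two [Finite F] (hF : 4 ≤ Nat.card F) : ∃ t : F, t ≠ 0 ∧ t ≠ 1 := by
  classical
  by_contra h
  push Not at h
  have := Fintype.ofFinite F
  have h1 : (Finset.univ : Finset F) ⊆ {0, 1} := by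
    intro t _
    by_cases ht : t = 0
    · simp [ht]
    · simp [h t ht]
  have h2 := Finset.card_le_card h1
  rw [Finset.card_univ, ← Nat.card_eq_fintype_card] at h2
  have h3 := Finset.card_le_two (a := (0 : F)) (b := 1)
  omega

/-- an elementary abelian subgroup of order `≥ |F|³` centralised by `f` -/
def Big (f : UT 5 F ≃* UT 5 F) : Prop := ∃ D : Subgroup (UT 5 F), (∀ x ∈ D, x * x = 1) ∧
    (∀ x ∈ D, ∀ y ∈ D, x * y = y * x) ∧ (∀ x ∈ D, f x = x) ∧ Nat.card F ^ 3 ≤ Nat.card D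

theorem big_or [Finite F] (hF : 4 ≤ Nat.card F) {f : UT 5 F ≃* UT 5 F} (h2 : ∀ x, f (f x) = x) :
    Big f ∨ (Cr f ∧ ∃ l, rho f l ≠ l) := by
  rcases st_or_cr (exists_two hF) f with h | h
  · left
    obtain ⟨D, h1, h3, h4⟩ := card_le_sq (e1 (F := F)).range (fun x hx => e1_sq hx)
      (fun x hx y hy => e1_comm hx hy) f h2 h.e1
    refine ⟨D, fun x hx => e1_sq (h1 hx), fun x hx y hy => e1_comm (h1 hx) (h1 hy), h3, ?_⟩
    rw [card_e1] at h4
    have h5 : (Nat.card F ^ 3) ^ 2 ≤ Nat.card D ^ 2 := by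
      rw [← pow_mul]; exact h4
    exact (Nat.pow_le_pow_iff_left (two_ne_zero)).1 h5
  · by_cases h1 : ∀ l, rho f l = l
    · left
      obtain ⟨D, h3, h4, h5, h6⟩ := exists_linear h h2 h1
      exact ⟨D, h3, h4, h5, h6.ge⟩
    · right
      push Not at h1
      exact ⟨h, h1⟩

theorem rho_unique [Finite F] {f f' : UT 5 F ≃* UT 5 F} (hf : Cr f) (h2 : ∀ x, f (f x) = x) (hf' : Cr f')
    (h2' : ∀ x, f' (f' x) = x) (h : ∃ l, rho f l ≠ l) (h' : ∃ l, rho f' l ≠ l) : ∀ l, rho f l = rho f' l := by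
  have e := OutField.unique_invol (r := rhoE hf h2) (s := rhoE hf' h2') (RingEquiv.ext fun x => rho_invol hf h2 x)
    (RingEquiv.ext fun x => rho_invol hf' h2' x) (fun h1 => by
      obtain ⟨l, hl⟩ := h
      exact hl (congrArg (fun r : F ≃+* F => r l) h1)) (fun h1 => by
      obtain ⟨l, hl⟩ := h'
      exact hl (congrArg (fun r : F ≃+* F => r l) h1))
  intro l
  exact congrArg (fun r : F ≃+* F => r l) e

/-! ### In the group -/

section group

variable {G : Type*} [Group G] [Finite G] {S : Subgroup G} (e : S ≃* UT 5 F)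

/-- conjugation as an endomorphism of `S` -/
def cj (x : G) (hx : ∀ s ∈ S, x * s * x⁻¹ ∈ S) : S →* S where
  toFun := fun s => ⟨x * s * x⁻¹, hx s s.2⟩
  map_one' := Subtype.ext (by simp)
  map_mul' := fun s s' => Subtype.ext (by simp)

theorem cj_inj (x : G) (hx : ∀ s ∈ S, x * s * x⁻¹ ∈ S) : Function.Injective (cj x hx) := by
  intro s s' h
  have h1 : x * s * x⁻¹ = x * s' * x⁻¹ := congrArg Subtype.val h
  exact Subtype.ext (by simpa using h1)

/-- conjugation as an automorphism of `UT 5 F` -/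
noncomputable def act (x : G) (hx : ∀ s ∈ S, x * s * x⁻¹ ∈ S) : UT 5 F ≃* UT 5 F :=
  e.symm.trans ((MulEquiv.ofBijective (cj x hx) (Finite.injective_iff_bijective.1 (cj_inj x hx))).trans e)

theorem act_apply (x : G) (hx : ∀ s ∈ S, x * s * x⁻¹ ∈ S) (s : S) :
    act e x hx (e s) = e ⟨x * s * x⁻¹, hx s s.2⟩ := by
  unfold act
  simp only [MulEquiv.trans_apply, MulEquiv.symm_apply_apply]
  rfl

theorem act_invol {v : G} (hv : v * v = 1) (hn : ∀ s ∈ S, v * s * v⁻¹ ∈ S) (x : UT 5 F) :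
    act e v hn (act e v hn x) = x := by
  obtain ⟨s, rfl⟩ := e.surjective x
  rw [act_apply, act_apply]
  congr 1
  apply Subtype.ext
  show v * (v * s * v⁻¹) * v⁻¹ = s
  calc v * (v * s * v⁻¹) * v⁻¹ = (v * v) * s * (v * v)⁻¹ := by group
    _ = s := by rw [hv]; group

/-- `Big`, in the group -/
theorem exists_big {v : G} {hn : ∀ s ∈ S, v * s * v⁻¹ ∈ S} (h : Big (act e v hn)) :
    ∃ D : Subgroup G, D ≤ S ∧ (∀ x ∈ D, x * x = 1) ∧ (∀ x ∈ D, ∀ y ∈ D, x * y = y * x) ∧ (∀ x ∈ D, x * v = v * x) ∧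
      Nat.card F ^ 3 ≤ Nat.card D := by
  obtain ⟨D, h1, h2, h3, h4⟩ := h
  let D' : Subgroup G := (D.map (e.symm : UT 5 F →* S)).map S.subtype
  have hD : ∀ x ∈ D', ∃ y ∈ D, x = e.symm y := by
    rintro x ⟨y, ⟨z, hz, rfl⟩, rfl⟩
    exact ⟨z, hz, rfl⟩
  refine ⟨D', ?_, ?_, ?_, ?_, ?_⟩
  · intro x hx
    obtain ⟨y, hy, rfl⟩ := hD x hx
    exact (e.symm y).2
  · intro x hx
    obtain ⟨y, hy, rfl⟩ := hD x hx
    rw [← Subgroup.coe_mul, ← map_mul, h1 y hy, map_one, Subgroup.coe_one]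
  · intro x hx x' hx'
    obtain ⟨y, hy, rfl⟩ := hD x hx
    obtain ⟨y', hy', rfl⟩ := hD x' hx'
    rw [← Subgroup.coe_mul, ← map_mul, h2 y hy y' hy', map_mul, Subgroup.coe_mul]
  · intro x hx
    obtain ⟨y, hy, rfl⟩ := hD x hx
    have h5 := h3 y hy
    obtain ⟨s, rfl⟩ := e.surjective y
    rw [act_apply] at h5
    have h6 := congrArg Subtype.val (e.injective h5)
    have h7 : v * s * v⁻¹ = s := h6
    rw [MulEquiv.symm_apply_apply]
    calc (s : G) * v = (v * s * v⁻¹) * v := by rw [h7]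
      _ = v * s := by group
  · have e1 : Nat.card D' = Nat.card (D.map (e.symm : UT 5 F →* S)) :=
      (Nat.card_congr (Subgroup.equivMapOfInjective _ _ S.subtype_injective).toEquiv).symm
    have e2 : Nat.card (D.map (e.symm : UT 5 F →* S)) = Nat.card D :=
      (Nat.card_congr (Subgroup.equivMapOfInjective _ (e.symm : UT 5 F →* S) e.symm.injective).toEquiv).symm
    rw [e1, e2]
    exact h4

theorem card_model (D : Subgroup (UT 5 F)) (h1 : ∀ x ∈ D, x * x = 1) (h2 : ∀ x ∈ D, ∀ y ∈ D, x * y = y * x)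
    {v : G} {hn : ∀ s ∈ S, v * s * v⁻¹ ∈ S} (h3 : ∀ x ∈ D, act e v hn x = x) {k : ℕ}
    (hk : ∀ D : Subgroup G, D ≤ S → (∀ x ∈ D, x * x = 1) → (∀ x ∈ D, ∀ y ∈ D, x * y = y * x) →
      (∀ x ∈ D, x * v = v * x) → Nat.card D ≤ k) : Nat.card D ≤ k := by
  let D' : Subgroup G := (D.map (e.symm : UT 5 F →* S)).map S.subtype
  have hD : ∀ x ∈ D', ∃ y ∈ D, x = e.symm y := by
    rintro x ⟨y, ⟨z, hz, rfl⟩, rfl⟩
    exact ⟨z, hz, rfl⟩
  have e1 : Nat.card D' = Nat.card (D.map (e.symm : UT 5 F →* S)) :=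
    (Nat.card_congr (Subgroup.equivMapOfInjective _ _ S.subtype_injective).toEquiv).symm
  have e2 : Nat.card (D.map (e.symm : UT 5 F →* S)) = Nat.card D :=
    (Nat.card_congr (Subgroup.equivMapOfInjective _ (e.symm : UT 5 F →* S) e.symm.injective).toEquiv).symm
  rw [← e2, ← e1]
  apply hk D'
  · intro x hx
    obtain ⟨y, hy, rfl⟩ := hD x hx
    exact (e.symm y).2
  · intro x hx
    obtain ⟨y, hy, rfl⟩ := hD x hx
    rw [← Subgroup.coe_mul, ← map_mul, h1 y hy, map_one, Subgroup.coe_one]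
  · intro x hx x' hx'
    obtain ⟨y, hy, rfl⟩ := hD x hx
    obtain ⟨y', hy', rfl⟩ := hD x' hx'
    rw [← Subgroup.coe_mul, ← map_mul, h2 y hy y' hy', map_mul, Subgroup.coe_mul]
  · intro x hx
    obtain ⟨y, hy, rfl⟩ := hD x hx
    have h5 := h3 y hy
    obtain ⟨s, rfl⟩ := e.surjective y
    rw [act_apply] at h5
    have h6 := congrArg Subtype.val (e.injective h5)
    have h7 : v * s * v⁻¹ = s := h6
    rw [MulEquiv.symm_apply_apply]
    calc (s : G) * v = (v * s * v⁻¹) * v := by rw [h7]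
      _ = v * s := by group

/-- equal images in `UT / UT'` -/
theorem mem_comm_of_cf {x : S} (h : ∀ k, cf (e x) k = 0) : (x : G) ∈ ⁅S, S⁆ := by
  have h1 : N (e x) ∈ lev 5 F 2 := (mem_two_iff _).2 h
  have h2 := (Cfsg.Agent.SylowL.Lower.mem_lowerCentralSeries_iff (k := 1) (g := e x)).2 h1
  have h3 : e x ∈ (⁅(⊤ : Subgroup (UT 5 F)), ⊤⁆ : Subgroup (UT 5 F)) := h2
  have h4 : x ∈ (⁅(⊤ : Subgroup S), ⊤⁆ : Subgroup S) := by
    have h5 : (⁅(⊤ : Subgroup (UT 5 F)), ⊤⁆ : Subgroup (UT 5 F)).map (e.symm : UT 5 F →* S) = ⁅(⊤ : Subgroup S), ⊤⁆ := by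
      rw [Subgroup.map_commutator, Subgroup.map_top_of_surjective _ e.symm.surjective]
    rw [← h5]
    exact ⟨e x, h3, e.symm_apply_apply x⟩
  have h5 : (⁅(⊤ : Subgroup S), ⊤⁆ : Subgroup S).map S.subtype = ⁅S, S⁆ := by
    rw [Subgroup.map_commutator, ← MonoidHom.range_eq_map, Subgroup.range_subtype]
  rw [← h5]
  exact ⟨x, h4, rfl⟩

/-- elements of `S` act as straight automorphisms -/
theorem not_cr_of_mem {v : G} (hv : v ∈ S) {hn : ∀ s ∈ S, v * s * v⁻¹ ∈ S} : ¬ Cr (act e v hn) := by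
  intro cv
  have h4 := cv 3 (rt 0 (by norm_num) 1) le_rfl (cf_rt_ne _ (by norm_num) _)
  obtain ⟨s, hs⟩ := e.surjective (rt 0 (by norm_num) 1)
  rw [← hs, act_apply] at h4
  have e5 : (⟨v * s * v⁻¹, hn s s.2⟩ : S) = ⟨v, hv⟩ * s * ⟨v, hv⟩⁻¹ := Subtype.ext rfl
  rw [e5, map_mul, map_mul, map_inv, cf_mul, cf_mul, cf_inv, hs] at h4
  have h6 : cf (e ⟨v, hv⟩) 0 + cf (rt 0 (by norm_num) (1 : F) : UT 5 F) 0 + -cf (e ⟨v, hv⟩) 0 = 0 := h4
  rw [cf_rt_self] at h6
  exact one_ne_zero (by linear_combination h6 : (1 : F) = 0)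

variable {T : Subgroup G} {t : G}

include e in
/-- **(★)** -/
theorem star [Finite F] (hF : 4 ≤ Nat.card F) (hT2 : IsPGroup 2 T) (ht : t * t = 1) (htT : t ∈ T)
    (hTN : ∀ x ∈ T, ∀ s ∈ S, x * s * x⁻¹ ∈ S)
    (hrank : ∀ D : Subgroup G, (∀ x ∈ D, x * x = 1) → (∀ x ∈ D, ∀ y ∈ D, x * y = y * x) →
      (∀ x ∈ D, x * t = t * x) → Nat.card D < Nat.card F ^ 3)
    (hU : ∀ D : Subgroup G, D ≤ S → (∀ x ∈ D, x * x = 1) → (∀ x ∈ D, ∀ y ∈ D, x * y = y * x) →
      (∀ x ∈ D, x * t = t * x) → Nat.card D ≤ Nat.card F ^ 2)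
    (hout : ∀ f ∈ T, (∀ s ∈ S, f * s * f⁻¹ * s⁻¹ ∈ ⁅S, S⁆) → f ∈ S ∨ t * f ∈ S)
    (g : G) {s0 τ0 : G} (hs0 : s0 ∈ S) (hτ0 : τ0 ∈ T) (hg : g * t * g⁻¹ = s0 * τ0)
    {n : ℕ} (hn : (t * (g * t * g⁻¹)) ^ 2 ^ n = 1) :
    ∃ x ∈ S, g * t * g⁻¹ = x * t * x⁻¹ := by
  set v := g * t * g⁻¹ with hvdef
  have hv : v * v = 1 := by
    calc v * v = g * (t * t) * g⁻¹ := by rw [hvdef]; group
      _ = 1 := by rw [ht]; group
  have hvN : ∀ s ∈ S, v * s * v⁻¹ ∈ S := by
    intro s hs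
    have e1 : v * s * v⁻¹ = s0 * (τ0 * s * τ0⁻¹) * s0⁻¹ := by rw [hg]; group
    rw [e1]
    exact mul_mem (mul_mem hs0 (hTN _ hτ0 s hs)) (inv_mem hs0)
  have htN := hTN t htT
  -- no big subgroups
  have hbv : ¬ Big (act e v hvN) := by
    intro h
    obtain ⟨D, -, h1, h2, h3, h4⟩ := exists_big e h
    let D' : Subgroup G := D.map (MulAut.conj g⁻¹).toMonoidHom
    have hD : ∀ x ∈ D', ∃ y ∈ D, x = g⁻¹ * y * g := by
      rintro x ⟨y, hy, rfl⟩
      exact ⟨y, hy, by simp [MulAut.conj_apply]⟩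
    have h5 := hrank D' (by
      intro x hx
      obtain ⟨y, hy, rfl⟩ := hD x hx
      calc g⁻¹ * y * g * (g⁻¹ * y * g) = g⁻¹ * (y * y) * g := by group
        _ = 1 := by rw [h1 y hy]; group) (by
      intro x hx x' hx'
      obtain ⟨y, hy, rfl⟩ := hD x hx
      obtain ⟨y', hy', rfl⟩ := hD x' hx'
      calc g⁻¹ * y * g * (g⁻¹ * y' * g) = g⁻¹ * (y * y') * g := by group
        _ = g⁻¹ * (y' * y) * g := by rw [h2 y hy y' hy']
        _ = g⁻¹ * y' * g * (g⁻¹ * y * g) := by group) (by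
      intro x hx
      obtain ⟨y, hy, rfl⟩ := hD x hx
      have h6 := h3 y hy
      calc g⁻¹ * y * g * t = g⁻¹ * (y * v) * g := by rw [hvdef]; group
        _ = g⁻¹ * (v * y) * g := by rw [h6]
        _ = t * (g⁻¹ * y * g) := by rw [hvdef]; group)
    have h6 : Nat.card D' = Nat.card D :=
      (Nat.card_congr (Subgroup.equivMapOfInjective _ _ (MulAut.conj g⁻¹).injective).toEquiv).symm
    omega
  have hbt : ¬ Big (act e t htN) := by
    intro h
    obtain ⟨D, -, h1, h2, h3, h4⟩ := exists_big e h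
    have h5 := hrank D h1 h2 h3
    omega
  obtain ⟨cv, rv⟩ := (big_or hF (act_invol e hv hvN)).resolve_left hbv
  obtain ⟨ct, rt'⟩ := (big_or hF (act_invol e ht htN)).resolve_left hbt
  have hr := rho_unique ct (act_invol e ht htN) cv (act_invol e hv hvN) rt' rv
  have hti : t⁻¹ = t := inv_eq_of_mul_eq_one_right ht
  have hvi : v⁻¹ = v := inv_eq_of_mul_eq_one_right hv
  -- the iterates
  have hit : ∀ (m : ℕ) (s : S), (fun y => act e t htN (act e v hvN y))^[m] (e s) =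
      e ⟨(t * v) ^ m * s * ((t * v) ^ m)⁻¹, by
        induction m generalizing s with
        | zero => simp
        | succ m ih =>
          have e1 : (t * v) ^ (m + 1) * s * ((t * v) ^ (m + 1))⁻¹ =
              t * (v * ((t * v) ^ m * s * ((t * v) ^ m)⁻¹) * v⁻¹) * t⁻¹ := by
            rw [pow_succ']; generalize (t * v) ^ m = X; group
          rw [e1]
          exact htN _ (hvN _ (ih s))⟩ := by
    intro m
    induction m with
    | zero => intro s; simp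
    | succ m ih =>
      intro s
      rw [Function.iterate_succ_apply', ih, act_apply, act_apply]
      congr 1
      apply Subtype.ext
      show t * (v * ((t * v) ^ m * s * ((t * v) ^ m)⁻¹) * v⁻¹) * t⁻¹ = (t * v) ^ (m + 1) * s * ((t * v) ^ (m + 1))⁻¹
      rw [pow_succ']; generalize (t * v) ^ m = X; group
  have hcf := cf_fixed ct (act_invol e ht htN) cv (act_invol e hv hvN) hr (n := n) (by
    intro x
    obtain ⟨s, rfl⟩ := e.surjective x
    rw [hit]
    congr 1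
    apply Subtype.ext
    show (t * v) ^ 2 ^ n * s * ((t * v) ^ 2 ^ n)⁻¹ = s
    rw [hn]; simp)
  -- the element `τ = t τ0`
  have hτ : ∀ s ∈ S, (t * τ0) * s * (t * τ0)⁻¹ * s⁻¹ ∈ ⁅S, S⁆ := by
    intro s hs
    set y : G := t * s0 * t⁻¹ with hy
    have hyS : y ∈ S := htN _ hs0
    have hm1 : (t * τ0) * s * (t * τ0)⁻¹ ∈ S := hTN _ (mul_mem htT hτ0) s hs
    have hm : (t * τ0) * s * (t * τ0)⁻¹ * s⁻¹ ∈ S := mul_mem hm1 (inv_mem hs)
    have hvs : v * s * v⁻¹ ∈ S := hvN s hs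
    have hw : t * (v * s * v⁻¹) * t⁻¹ ∈ S := htN _ hvs
    refine mem_comm_of_cf e (x := ⟨_, hm⟩) (fun k => ?_)
    have e1 : (⟨(t * τ0) * s * (t * τ0)⁻¹ * s⁻¹, hm⟩ : S) =
        ⟨y, hyS⟩⁻¹ * ⟨t * (v * s * v⁻¹) * t⁻¹, hw⟩ * ⟨y, hyS⟩ * ⟨s, hs⟩⁻¹ := by
      apply Subtype.ext
      show (t * τ0) * s * (t * τ0)⁻¹ * s⁻¹ = y⁻¹ * (t * (v * s * v⁻¹) * t⁻¹) * y * s⁻¹
      rw [hy, hg]
      group
    have e2 := hcf (e ⟨s, hs⟩) k
    rw [act_apply, act_apply] at e2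
    have e3 : (⟨t * (⟨v * (⟨s, hs⟩ : S) * v⁻¹, hvs⟩ : S) * t⁻¹, hw⟩ : S) = ⟨t * (v * s * v⁻¹) * t⁻¹, hw⟩ := rfl
    rw [e1, map_mul, map_mul, map_mul, map_inv, map_inv, cf_mul, cf_mul, cf_mul, cf_inv, cf_inv]
    have e4 : cf (e ⟨t * (v * s * v⁻¹) * t⁻¹, hw⟩) k = cf (e ⟨s, hs⟩) k := e2
    rw [e4]
    ring
  rcases hout _ (mul_mem htT hτ0) hτ with h | h
  · -- `t v ∈ S`
    have h1 : t * v ∈ S := by
      have e1 : t * v = (t * s0 * t⁻¹) * (t * τ0) := by rw [hg]; group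
      rw [e1]
      exact mul_mem (htN _ hs0) h
    have h3 : act e t htN (e ⟨t * v, h1⟩) = (e ⟨t * v, h1⟩)⁻¹ := by
      rw [act_apply, ← map_inv]
      congr 1
      apply Subtype.ext
      show t * (t * v) * t⁻¹ = (t * v)⁻¹
      calc t * (t * v) * t⁻¹ = (t * t) * v * t⁻¹ := by group
        _ = v⁻¹ * t⁻¹ := by rw [ht, hvi, one_mul]
        _ = (t * v)⁻¹ := by group
    obtain ⟨x, hx⟩ := exists_coboundary ct (act_invol e ht htN) (fun D h1 h2 h3 => card_model e D h1 h2 h3 hU) h3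
    obtain ⟨s, rfl⟩ := e.surjective x
    rw [act_apply, ← map_inv, ← map_mul] at hx
    have h4 := congrArg Subtype.val (e.injective hx)
    have h5 : t * v = t * s * t⁻¹ * (s : G)⁻¹ := h4
    refine ⟨s, s.2, ?_⟩
    calc v = t⁻¹ * (t * v) := by group
      _ = s * t⁻¹ * (s : G)⁻¹ := by rw [h5]; group
      _ = s * t * (s : G)⁻¹ := by rw [hti]
  · -- `v ∈ S`
    exfalso
    have h1 : τ0 ∈ S := by
      have e1 : t * (t * τ0) = τ0 := by rw [← mul_assoc, ht, one_mul]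
      rwa [e1] at h
    have h3 : v ∈ S := by rw [hg]; exact mul_mem hs0 h1
    exact not_cr_of_mem e h3 cv

end group

end Cfsg.Agent.StdRank2.UClose
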